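import Mathlib

/-!
# Topological lemmas on spaces with finitely many irreducible components
-/

set_option autoImplicit false

namespace Groth.Agent.Lib.Helper6.LocIso

open Set

variable {T : Type*} [TopologicalSpace T]

/-- The complement of the union of the irreducible components other than `Z`. -/
def compOpen (Z : Set T) : Set T := (⋃₀ (irreducibleComponents T \ {Z}))ᶜ

theorem isOpen_compOpen (hT : (irreducibleComponents T).Finite) (Z : Set T) :
    IsOpen (compOpen Z) := by
  rw [compOpen, Set.sUnion_eq_biUnion, isOpen_compl_iff]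
  exact hT.sdiff.isClosed_biUnion fun W hW ↦ isClosed_of_mem_irreducibleComponents W hW.1

theorem compOpen_subset {Z : Set T} (hZ : Z ∈ irreducibleComponents T) : compOpen Z ⊆ Z := by
  rw [compOpen, Set.compl_subset_iff_union, ← Set.sUnion_singleton Z, ← Set.sUnion_union,
    Set.sUnion_singleton, Set.sdiff_union_of_subset, sUnion_irreducibleComponents]
  rwa [Set.singleton_subset_iff]

theorem disjoint_compOpen {Z Z' : Set T} (hZ : Z ∈ irreducibleComponents T) (hne : Z ≠ Z') :
    Disjoint (compOpen Z) (compOpen Z') := by
  rw [Set.disjoint_left]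
  intro w hw hw'
  exact hw' (Set.mem_sUnion_of_mem (compOpen_subset hZ hw) ⟨hZ, hne⟩)

theorem mem_compOpen_of_closure_mem {x : T} (hx : closure {x} ∈ irreducibleComponents T) :
    x ∈ compOpen (closure {x}) := by
  rintro ⟨W, ⟨hW, hWne⟩, hxW⟩
  apply hWne
  have hsub : closure {x} ⊆ W :=
    (isClosed_of_mem_irreducibleComponents W hW).closure_subset_iff.mpr
      (singleton_subset_iff.mpr hxW)
  exact Set.Subset.antisymm (hx.2 hW.1 hsub) hsub

theorem exists_generic_of_mem_irreducibleComponents [QuasiSober T] {Z : Set T}
    (hZ : Z ∈ irreducibleComponents T) : ∃ x, closure {x} = Z :=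
  ⟨hZ.1.genericPoint,
    hZ.1.isGenericPoint_genericPoint (isClosed_of_mem_irreducibleComponents Z hZ)⟩

theorem dense_of_isOpen_of_generic_mem [QuasiSober T] {s : Set T} (hs : IsOpen s)
    (h : ∀ x : T, closure {x} ∈ irreducibleComponents T → x ∈ s) : Dense s := by
  rw [dense_iff_inter_open]
  rintro W hW ⟨w, hw⟩
  obtain ⟨x, hx⟩ := exists_generic_of_mem_irreducibleComponents
    (irreducibleComponent_mem_irreducibleComponents w)
  have hxw : x ⤳ w := specializes_iff_mem_closure.mpr (hx ▸ mem_irreducibleComponent)
  exact ⟨x, hxw.mem_open hW hw, h x (hx ▸ irreducibleComponent_mem_irreducibleComponents w)⟩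

/-- A dense open set contains every generic point of an irreducible component, provided there are
finitely many components. -/
theorem generic_mem_of_dense_isOpen (hT : (irreducibleComponents T).Finite) {s : Set T}
    (hs : IsOpen s) (hd : Dense s) {x : T} (hx : closure {x} ∈ irreducibleComponents T) :
    x ∈ s := by
  obtain ⟨w, hw, hws⟩ := (dense_iff_inter_open.mp hd) _ (isOpen_compOpen hT (closure {x}))
    ⟨x, mem_compOpen_of_closure_mem hx⟩
  have hxw : x ⤳ w := specializes_iff_mem_closure.mpr (compOpen_subset hx hw)
  exact hxw.mem_open hs hws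

end Groth.Agent.Lib.Helper6.LocIso
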