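import Mathlib
import Groth.Agent.Lib.Helper6.LocIso.Top

/-!
# Quasi-finiteness at points over a generic point
-/

set_option autoImplicit false
universe u

namespace Groth.Agent.Lib.Helper6.LocIso

open AlgebraicGeometry CategoryTheory TopologicalSpace

section Top

variable {T : Type*} [TopologicalSpace T]

theorem eq_of_specializes_of_closure_mem [T0Space T] {η y : T}
    (hη : closure {η} ∈ irreducibleComponents T) (h : y ⤳ η) : y = η := by
  have h1 : closure {η} ⊆ closure {y} := specializes_iff_closure_subset.mp h
  have h2 : closure {y} ⊆ closure {η} :=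
    hη.2 (isIrreducible_singleton.closure) h1
  exact ((inseparable_iff_closure_eq).mpr (Set.Subset.antisymm h2 h1)).eq

theorem exists_generic_specializes [QuasiSober T] (x : T) :
    ∃ x', closure {x'} ∈ irreducibleComponents T ∧ x' ⤳ x := by
  obtain ⟨x', hx'⟩ := exists_generic_of_mem_irreducibleComponents
    (irreducibleComponent_mem_irreducibleComponents x)
  exact ⟨x', hx' ▸ irreducibleComponent_mem_irreducibleComponents x,
    specializes_iff_mem_closure.mpr (hx' ▸ mem_irreducibleComponent)⟩

theorem topologicalKrullDim_le_zero_of_forall_specializes_eq [QuasiSober T]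
    (h : ∀ a b : T, a ⤳ b → a = b) : topologicalKrullDim T ≤ 0 := by
  rw [topologicalKrullDim, Order.krullDim_nonpos_iff_forall_isMax]
  intro Z Z' hZZ'
  have hz := Z.isIrreducible.isGenericPoint_genericPoint Z.isClosed
  have hz' := Z'.isIrreducible.isGenericPoint_genericPoint Z'.isClosed
  have hmem : Z.isIrreducible.genericPoint ∈ (Z' : Set T) := hZZ' hz.mem
  have hspec : Z'.isIrreducible.genericPoint ⤳ Z.isIrreducible.genericPoint :=
    specializes_iff_mem_closure.mpr (by rw [hz'.def]; exact hmem)
  have heq := h _ _ hspec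
  have : (Z' : Set T) = Z := by rw [← hz'.def, heq, hz.def]
  exact le_of_eq (SetLike.coe_injective this)

end Top


variable {X Y : Scheme.{u}} (f : X ⟶ Y)

theorem quasiFiniteAt_iff_isOpen_singleton [LocallyOfFiniteType f] (x : X) (η : Y)
    (hx : f x = η) :
    f.QuasiFiniteAt x ↔ IsOpen ({⟨x, hx⟩} : Set (f ⁻¹' {η})) := by
  subst hx
  rw [Scheme.Hom.quasiFiniteAt_iff_isOpen_singleton_asFiber,
    ← (f.fiberHomeo (f x)).isOpen_image]
  simp only [Set.image_singleton, Scheme.Hom.asFiber, Homeomorph.apply_symm_apply]

theorem isClosed_singleton_of_quasiFiniteAt [LocallyOfFiniteType f] (x : X) (η : Y)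
    (hx : f x = η) (hq : f.QuasiFiniteAt x) :
    IsClosed ({⟨x, hx⟩} : Set (f ⁻¹' {η})) := by
  subst hx
  have h := hq.isClopen_singleton_asFiber.1
  rw [← (f.fiberHomeo (f x)).isClosed_image] at h
  simpa only [Set.image_singleton, Scheme.Hom.asFiber, Homeomorph.apply_symm_apply] using h

set_option backward.isDefEq.respectTransparency.types false in
/-- If every point over `η` is a generic point of a component, the fibre over `η` is discrete. -/
theorem discreteTopology_fiber_of_forall_generic [LocallyOfFiniteType f] (η : Y)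
    (h : ∀ x : X, f x = η → closure {x} ∈ irreducibleComponents X) :
    DiscreteTopology (f.fiber η) := by
  have : LocallyOfFiniteType (f.fiberToSpecResidueField η) :=
    MorphismProperty.pullback_snd _ _ inferInstance
  have : IsLocallyNoetherian (f.fiber η) :=
    LocallyOfFiniteType.isLocallyNoetherian (f.fiberToSpecResidueField η)
  have hdim : topologicalKrullDim (f.fiber η) ≤ 0 := by
    apply topologicalKrullDim_le_zero_of_forall_specializes_eq
    intro a b hab
    have h1 : f.fiberι η a ⤳ f.fiberι η b := hab.map (f.fiberι η).continuous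
    have ha : f (f.fiberι η a) = η := (f.fiberHomeo η a).2
    have hb : f (f.fiberι η b) = η := (f.fiberHomeo η b).2
    have h2 := eq_of_specializes_of_closure_mem (h _ hb) h1
    exact (f.fiberι η).isEmbedding.injective h2
  have := IsLocallyArtinian.of_topologicalKrullDim_le_zero hdim
  infer_instance

/-- The three conditions on points over the generic point of a component. -/
theorem quasiFiniteAt_generic_tfae [LocallyOfFiniteType f] (η : Y)
    (hη : closure {η} ∈ irreducibleComponents Y) :
    ((∀ x : X, f x = η → closure {x} ∈ irreducibleComponents X) ↔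
      (∀ x : X, f x = η → f.QuasiFiniteAt x)) ∧
    ((∀ x : X, f x = η → closure {x} ∈ irreducibleComponents X) ↔
      (∀ x : X, f x = η → closure {x} ∈ irreducibleComponents X → f.QuasiFiniteAt x)) := by
  have h12 : (∀ x : X, f x = η → closure {x} ∈ irreducibleComponents X) →
      (∀ x : X, f x = η → f.QuasiFiniteAt x) := by
    intro h x hx
    have := discreteTopology_fiber_of_forall_generic f η h
    have : DiscreteTopology (f ⁻¹' {η}) := (f.fiberHomeo η).symm.isEmbedding.discreteTopology
    exact (quasiFiniteAt_iff_isOpen_singleton f x η hx).mpr (isOpen_discrete _)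
  -- generic generization over η
  have hgen : ∀ x : X, f x = η → ∃ x', closure {x'} ∈ irreducibleComponents X ∧ x' ⤳ x ∧
      f x' = η := by
    intro x hx
    obtain ⟨x', hx'1, hx'2⟩ := exists_generic_specializes x
    refine ⟨x', hx'1, hx'2, ?_⟩
    have : f x' ⤳ η := hx ▸ hx'2.map f.continuous
    exact eq_of_specializes_of_closure_mem hη this
  have h21 : (∀ x : X, f x = η → f.QuasiFiniteAt x) →
      (∀ x : X, f x = η → closure {x} ∈ irreducibleComponents X) := by
    intro h x hx
    obtain ⟨x', hx'1, hx'2, hx'3⟩ := hgen x hx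
    have hopen := (quasiFiniteAt_iff_isOpen_singleton f x η hx).mp (h x hx)
    have hspec : (⟨x', hx'3⟩ : f ⁻¹' {η}) ⤳ ⟨x, hx⟩ := (subtype_specializes_iff _ _).mpr hx'2
    have hmem := hspec.mem_open hopen rfl
    have : x' = x := congrArg Subtype.val hmem
    exact this ▸ hx'1
  have h31 : (∀ x : X, f x = η → closure {x} ∈ irreducibleComponents X → f.QuasiFiniteAt x) →
      (∀ x : X, f x = η → closure {x} ∈ irreducibleComponents X) := by
    intro h x hx
    obtain ⟨x', hx'1, hx'2, hx'3⟩ := hgen x hx
    have hclosed := isClosed_singleton_of_quasiFiniteAt f x' η hx'3 (h x' hx'3 hx'1)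
    have hspec : (⟨x', hx'3⟩ : f ⁻¹' {η}) ⤳ ⟨x, hx⟩ := (subtype_specializes_iff _ _).mpr hx'2
    have hmem := hspec.mem_closed hclosed rfl
    have : x = x' := congrArg Subtype.val hmem
    exact this ▸ hx'1
  exact ⟨⟨h12, h21⟩, ⟨fun h x hx _ => h12 h x hx, h31⟩⟩

end Groth.Agent.Lib.Helper6.LocIso
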