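import Mathlib

/-!
# Local isomorphisms from isomorphisms of local rings (ring level)

If `R → A` is of finite presentation (or of finite type with `R → R_q` injective) and
`R_q → A_p` is bijective, then there are `r ∉ q`, `a ∉ p` such that `A_a` is the localization
of `R` away from `r`.
-/

set_option autoImplicit false
universe u

namespace Groth.Agent.Lib.Helper6.LocIso

open MvPolynomial

variable {R A : Type u} [CommRing R] [CommRing A] [Algebra R A]

/-- If `σ : A → R_t` is an `R`-algebra map which becomes the identity in the `A`-algebra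
`C = A_{ts}`, then `C` is the localization of `R` away from `t r'`, where `σ s = r'`. -/
theorem away_of_section (t r' : R) (s : A) (Rt : Type u) [CommRing Rt] [Algebra R Rt]
    [IsLocalization.Away t Rt]
    (σ : A →ₐ[R] Rt) (hσs : σ s = algebraMap R Rt r')
    (C : Type u) [CommRing C] [Algebra A C] [Algebra R C] [IsScalarTower R A C]
    [IsLocalization.Away (algebraMap R A t * s) C]
    (hu : IsUnit (algebraMap R C t))
    (H : ∀ a : A, algebraMap A C a = IsLocalization.Away.lift (S := Rt) t hu (σ a)) :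
    IsLocalization.Away (t * r') C := by
  have hLalg : ∀ x : R, IsLocalization.Away.lift (S := Rt) t hu (algebraMap R Rt x) =
      algebraMap R C x := IsLocalization.Away.lift_eq t hu
  have hs_eq : algebraMap A C s = algebraMap R C r' := by rw [H, hσs, hLalg]
  have hts : IsUnit (algebraMap A C (algebraMap R A t * s)) :=
    IsLocalization.Away.algebraMap_isUnit _
  have hsu : IsUnit (algebraMap A C s) := by
    rw [map_mul] at hts; exact isUnit_of_mul_isUnit_right hts
  refine IsLocalization.Away.mk _ ?_ ?_ ?_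
  · rw [map_mul]; exact hu.mul (hs_eq ▸ hsu)
  · intro z
    obtain ⟨n, a, hn⟩ := IsLocalization.Away.surj (algebraMap R A t * s) z
    obtain ⟨m, ρ, hm⟩ := IsLocalization.Away.surj t (σ a)
    refine ⟨n + m, ρ * r' ^ m, ?_⟩
    have h1 : algebraMap A C a * algebraMap R C t ^ m = algebraMap R C ρ := by
      rw [H, ← hLalg t, ← map_pow, ← map_mul, hm, hLalg]
    calc z * algebraMap R C (t * r') ^ (n + m)
        = (z * algebraMap A C (algebraMap R A t * s) ^ n) * algebraMap R C t ^ m *
            algebraMap R C r' ^ m := by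
          rw [map_mul, map_mul, hs_eq, ← IsScalarTower.algebraMap_apply]; ring
      _ = algebraMap R C (ρ * r' ^ m) := by rw [hn, h1, map_mul, map_pow]
  · intro x y hxy
    rw [IsScalarTower.algebraMap_apply R A C, IsScalarTower.algebraMap_apply R A C y] at hxy
    obtain ⟨n, hn⟩ := IsLocalization.Away.exists_of_eq (algebraMap R A t * s) hxy
    have h2 := congrArg σ hn
    simp only [map_mul, map_pow, AlgHom.commutes, hσs] at h2
    rw [← map_mul, ← map_pow, ← map_mul, ← map_mul] at h2
    obtain ⟨m, hm⟩ := IsLocalization.Away.exists_of_eq t h2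
    refine ⟨n + m, ?_⟩
    have e1 : ∀ w : R, (t * r') ^ (n + m) * w = r' ^ m * (t ^ m * ((t * r') ^ n * w)) := by
      intro w; ring
    rw [e1, e1, hm]


/-- Step 1: a section `A → R_t` of the structure map near `q`. -/
theorem exists_section_away_aux (q : Ideal R) [q.IsPrime] (p : Ideal A) [p.IsPrime]
    (Rq Ap : Type u) [CommRing Rq] [CommRing Ap] [Algebra R Rq] [Algebra A Ap]
    [IsLocalization.AtPrime Rq q] [IsLocalization.AtPrime Ap p]
    (ℓ : Rq →+* Ap) (hℓ : ∀ r, ℓ (algebraMap R Rq r) = algebraMap A Ap (algebraMap R A r))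
    (hbij : Function.Bijective ℓ)
    (n : ℕ) (f : MvPolynomial (Fin n) R →ₐ[R] A) (hf : Function.Surjective f)
    (hker : (RingHom.ker f.toRingHom).FG ∨ Function.Injective (algebraMap R Rq)) :
    ∃ (t : R) (ht : t ∉ q) (σ : A →ₐ[R] Localization.Away t),
      ∀ a, ℓ (IsLocalization.Away.lift (S := Localization.Away t) t
        (g := algebraMap R Rq) (IsLocalization.map_units Rq (⟨t, ht⟩ : q.primeCompl)) (σ a)) =
          algebraMap A Ap a := by
  classical
  choose y hy using fun i : Fin n => hbij.2 (algebraMap A Ap (f (X i)))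
  obtain ⟨⟨t₀, ht₀⟩, hint⟩ :=
    IsLocalization.exist_integer_multiples_of_finset q.primeCompl (Finset.univ.image y)
  choose ρ hρ using fun i => hint (y i) (by simp)
  have hut₀ : IsUnit (algebraMap R Rq t₀) := IsLocalization.map_units Rq (⟨t₀, ht₀⟩ : q.primeCompl)
  let g₀ : MvPolynomial (Fin n) R →ₐ[R] Localization.Away t₀ :=
    aeval (fun i => IsLocalization.mk' (Localization.Away t₀) (ρ i)
      (⟨t₀, Submonoid.mem_powers t₀⟩ : Submonoid.powers t₀))
  let ι₀ : Localization.Away t₀ →+* Rq := IsLocalization.Away.lift t₀ hut₀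
  have hι₀ : ∀ x, ι₀ (algebraMap R (Localization.Away t₀) x) = algebraMap R Rq x :=
    IsLocalization.Away.lift_eq t₀ hut₀
  have hι₀X : ∀ i, ι₀ (g₀ (X i)) = y i := by
    intro i
    have h1 : g₀ (X i) = IsLocalization.mk' (Localization.Away t₀) (ρ i)
      (⟨t₀, Submonoid.mem_powers t₀⟩ : Submonoid.powers t₀) := aeval_X _ i
    have h2 : g₀ (X i) * algebraMap R (Localization.Away t₀) t₀ =
        algebraMap R (Localization.Away t₀) (ρ i) := by
      rw [h1]; exact IsLocalization.mk'_spec _ _ _
    have h3 := congrArg ι₀ h2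
    rw [map_mul, hι₀, hι₀, hρ i, Algebra.smul_def, mul_comm] at h3
    exact hut₀.mul_left_cancel h3
  have key₀ : ∀ P, ℓ (ι₀ (g₀ P)) = algebraMap A Ap (f P) := by
    have : (ℓ.comp ι₀).comp g₀.toRingHom = (algebraMap A Ap).comp f.toRingHom := by
      apply MvPolynomial.ringHom_ext
      · intro r
        show ℓ (ι₀ (g₀ (C r))) = algebraMap A Ap (f (C r))
        rw [← MvPolynomial.algebraMap_eq, AlgHom.commutes, AlgHom.commutes, hι₀, hℓ]
      · intro i
        show ℓ (ι₀ (g₀ (X i))) = algebraMap A Ap (f (X i))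
        rw [hι₀X, hy]
    intro P; exact RingHom.congr_fun this P
  -- kill the kernel
  have hzero : ∀ P, f P = 0 → ∃ c : R, c ∉ q ∧
      algebraMap R (Localization.Away t₀) c * g₀ P = 0 := by
    intro P hP0
    have h0 : ι₀ (g₀ P) = 0 := hbij.1 (by rw [key₀, hP0, map_zero, map_zero])
    obtain ⟨k, x, hx⟩ := IsLocalization.Away.surj t₀ (g₀ P)
    have hx0 : algebraMap R Rq x = 0 := by
      rw [← hι₀, ← hx, map_mul, h0, zero_mul]
    obtain ⟨⟨c, hc⟩, hcx⟩ := (IsLocalization.map_eq_zero_iff q.primeCompl Rq x).mp hx0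
    refine ⟨c, hc, ?_⟩
    have hu := IsLocalization.Away.algebraMap_pow_isUnit (S := Localization.Away t₀) t₀ k
    apply hu.mul_left_injective
    simp only [zero_mul]
    rw [mul_assoc, hx, ← map_mul, hcx, map_zero]
  have hc : ∃ c : R, c ∉ q ∧ ∀ P ∈ RingHom.ker f.toRingHom,
      algebraMap R (Localization.Away t₀) c * g₀ P = 0 := by
    rcases hker with hfg | hinj
    · obtain ⟨T, hT⟩ := hfg
      have h1 : ∀ P ∈ T, ∃ c : R, c ∉ q ∧ algebraMap R (Localization.Away t₀) c * g₀ P = 0 := by
        intro P hP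
        have : P ∈ RingHom.ker f.toRingHom := hT ▸ Ideal.subset_span hP
        exact hzero P this
      choose! cf hcf using h1
      refine ⟨∏ P ∈ T, cf P, ?_, ?_⟩
      · intro hmem
        obtain ⟨P, hP, hPq⟩ := (Ideal.IsPrime.prod_mem_iff).mp hmem
        exact (hcf P hP).1 hPq
      · intro P hP
        rw [← hT] at hP
        refine Submodule.span_induction ?_ ?_ ?_ ?_ hP
        · intro Q hQ
          rw [← Finset.mul_prod_erase T cf hQ, map_mul, mul_comm (algebraMap _ _ (cf Q)),
            mul_assoc, (hcf Q hQ).2, mul_zero]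
        · simp
        · intro Q₁ Q₂ _ _ h1 h2
          rw [map_add, mul_add, h1, h2, add_zero]
        · intro a Q _ h1
          rw [smul_eq_mul, map_mul, mul_left_comm, h1, mul_zero]
    · refine ⟨1, fun h1 => ‹q.IsPrime›.ne_top ((Ideal.eq_top_iff_one q).mpr h1), ?_⟩
      intro P hP
      have h0 : ι₀ (g₀ P) = 0 := hbij.1 (by rw [key₀, (show f P = 0 from hP), map_zero, map_zero])
      obtain ⟨k, x, hx⟩ := IsLocalization.Away.surj t₀ (g₀ P)
      have hx0 : algebraMap R Rq x = 0 := by
        rw [← hι₀, ← hx, map_mul, h0, zero_mul]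
      have hx00 : x = 0 := hinj (by rw [hx0, map_zero])
      have hu := IsLocalization.Away.algebraMap_pow_isUnit (S := Localization.Away t₀) t₀ k
      rw [map_one, one_mul]
      apply hu.mul_left_injective
      simp only [zero_mul]
      rw [hx, hx00, map_zero]
  obtain ⟨c, hcq, hcker⟩ := hc
  have htq : t₀ * c ∉ q := fun h => (‹q.IsPrime›.mem_or_mem h).elim ht₀ hcq
  refine ⟨t₀ * c, htq, ?_⟩
  let κ : Localization.Away t₀ →+* Localization.Away (t₀ * c) :=
    IsLocalization.Away.awayToAwayRight t₀ c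
  have hκ : ∀ a, κ (algebraMap R (Localization.Away t₀) a) =
      algebraMap R (Localization.Away (t₀ * c)) a := IsLocalization.Away.awayToAwayRight_eq t₀ c
  let g : MvPolynomial (Fin n) R →+* Localization.Away (t₀ * c) := κ.comp g₀.toRingHom
  have hgker : RingHom.ker f.toRingHom ≤ RingHom.ker g := by
    intro P hP
    have h1 := congrArg κ (hcker P hP)
    rw [map_mul, hκ, map_zero] at h1
    have hcu : IsUnit (algebraMap R (Localization.Away (t₀ * c)) c) :=
      IsLocalization.Away.isUnit_of_dvd (x := t₀ * c) (Dvd.intro_left _ rfl)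
    exact hcu.mul_left_cancel (h1.trans (mul_zero _).symm)
  let σ₀ : A →+* Localization.Away (t₀ * c) :=
    RingHom.liftOfSurjective f.toRingHom hf ⟨g, hgker⟩
  have hσ₀ : ∀ P, σ₀ (f P) = g P := fun P =>
    RingHom.liftOfRightInverse_comp_apply _ _ _ ⟨g, hgker⟩ P
  let σ : A →ₐ[R] Localization.Away (t₀ * c) :=
    { σ₀ with
      commutes' := fun r => by
        show σ₀ (algebraMap R A r) = _
        rw [← f.commutes r, hσ₀]
        show κ (g₀ (algebraMap R _ r)) = _
        rw [AlgHom.commutes, hκ] }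
  refine ⟨σ, ?_⟩
  intro a
  obtain ⟨P, rfl⟩ := hf a
  have e1 : σ (f P) = κ (g₀ P) := hσ₀ P
  rw [e1, ← key₀]
  congr 1
  have hutc : IsUnit (algebraMap R Rq (t₀ * c)) :=
    IsLocalization.map_units Rq (⟨t₀ * c, htq⟩ : q.primeCompl)
  have : (IsLocalization.Away.lift (S := Localization.Away (t₀ * c)) (t₀ * c) hutc).comp κ = ι₀ := by
    apply IsLocalization.ringHom_ext (Submonoid.powers t₀)
    ext x
    show IsLocalization.Away.lift (S := Localization.Away (t₀ * c)) (t₀ * c) hutc
      (κ (algebraMap R _ x)) = ι₀ (algebraMap R _ x)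
    rw [hκ, hι₀, IsLocalization.Away.lift_eq]
  exact RingHom.congr_fun this (g₀ P)


/-- Step 2: from a section near `q` compatible with the isomorphism of local rings, obtain
principal localizations which agree. -/
theorem exists_away_of_section (q : Ideal R) [q.IsPrime] (p : Ideal A) [p.IsPrime]
    (Rq Ap : Type u) [CommRing Rq] [CommRing Ap] [Algebra R Rq] [Algebra A Ap]
    [IsLocalization.AtPrime Rq q] [IsLocalization.AtPrime Ap p]
    (ℓ : Rq →+* Ap) (hℓ : ∀ r, ℓ (algebraMap R Rq r) = algebraMap A Ap (algebraMap R A r))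
    (hbij : Function.Bijective ℓ)
    (n : ℕ) (f : MvPolynomial (Fin n) R →ₐ[R] A) (hf : Function.Surjective f)
    (t : R) (ht : t ∉ q) (σ : A →ₐ[R] Localization.Away t)
    (hσ : ∀ a, ℓ (IsLocalization.Away.lift (S := Localization.Away t) t
        (g := algebraMap R Rq) (IsLocalization.map_units Rq (⟨t, ht⟩ : q.primeCompl)) (σ a)) =
          algebraMap A Ap a) :
    ∃ (r : R) (a : A), r ∉ q ∧ a ∉ p ∧
      ∀ (C : Type u) [CommRing C] [Algebra A C] [Algebra R C] [IsScalarTower R A C]
        [IsLocalization.Away a C], IsLocalization.Away r C := by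
  classical
  have hut : IsUnit (algebraMap R Rq t) := IsLocalization.map_units Rq (⟨t, ht⟩ : q.primeCompl)
  have hι : ∀ x, IsLocalization.Away.lift (S := Localization.Away t) t hut
      (algebraMap R (Localization.Away t) x) = algebraMap R Rq x :=
    IsLocalization.Away.lift_eq t hut
  have hunit : ∀ z : Rq, IsUnit (ℓ z) → IsUnit z := by
    intro z hz
    obtain ⟨w, hw⟩ := hbij.2 (↑hz.unit⁻¹ : Ap)
    refine IsUnit.of_mul_eq_one w (hbij.1 ?_)
    rw [map_mul, hw, map_one]
    exact hz.mul_val_inv
  have hnotq : ∀ x : R, x ∉ q → algebraMap R A x ∉ p := by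
    intro x hx hxp
    have h1 : IsUnit (algebraMap R Rq x) := IsLocalization.map_units Rq (⟨x, hx⟩ : q.primeCompl)
    have h2 : IsUnit (algebraMap A Ap (algebraMap R A x)) := hℓ x ▸ h1.map ℓ
    exact (IsLocalization.AtPrime.isUnit_to_map_iff Ap p _).mp h2 hxp
  -- Step 3
  have h3 : ∀ i : Fin n, ∃ (m : ℕ) (ρ : R) (s : A), s ∉ p ∧
      σ (f (X i)) * algebraMap R (Localization.Away t) t ^ m =
        algebraMap R (Localization.Away t) ρ ∧
      s * (f (X i) * algebraMap R A t ^ m - algebraMap R A ρ) = 0 := by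
    intro i
    obtain ⟨m, ρ, hm⟩ := IsLocalization.Away.surj t (σ (f (X i)))
    have h0 : algebraMap A Ap (f (X i) * algebraMap R A t ^ m - algebraMap R A ρ) = 0 := by
      rw [map_sub, map_mul, map_pow, ← hℓ, ← hℓ, ← hσ, ← hι, ← hι, ← map_pow, ← map_mul,
        ← map_pow, ← map_mul, hm, sub_self]
    obtain ⟨⟨s, hs⟩, hs0⟩ := (IsLocalization.map_eq_zero_iff p.primeCompl Ap _).mp h0
    exact ⟨m, ρ, s, hs, hm, hs0⟩
  choose m ρ s hs hm hs0 using h3
  let s₀ : A := ∏ i, s i
  have hs₀ : s₀ ∉ p := by
    intro hmem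
    obtain ⟨i, -, hi⟩ := (Ideal.IsPrime.prod_mem_iff).mp hmem
    exact hs i hi
  have hs₀0 : ∀ i, s₀ * (f (X i) * algebraMap R A t ^ m i - algebraMap R A (ρ i)) = 0 := by
    intro i
    show (∏ i, s i) * _ = 0
    rw [← Finset.mul_prod_erase Finset.univ s (Finset.mem_univ i), mul_comm (s i), mul_assoc,
      hs0 i, mul_zero]
  -- Step 4
  obtain ⟨k, r', hk⟩ := IsLocalization.Away.surj t (σ s₀)
  let s' : A := s₀ * algebraMap R A t ^ k
  have hσs' : σ s' = algebraMap R (Localization.Away t) r' := by
    show σ (s₀ * algebraMap R A t ^ k) = _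
    rw [map_mul, map_pow, AlgHom.commutes, hk]
  have hs' : s' ∉ p := by
    intro hmem
    rcases ‹p.IsPrime›.mem_or_mem hmem with h | h
    · exact hs₀ h
    · exact hnotq t ht (‹p.IsPrime›.mem_of_pow_mem k h)
  have hr' : r' ∉ q := by
    intro hr'q
    have h1 : IsUnit (algebraMap A Ap s') :=
      (IsLocalization.AtPrime.isUnit_to_map_iff Ap p _).mpr hs'
    rw [← hσ, hσs', hι] at h1
    exact (IsLocalization.AtPrime.isUnit_to_map_iff Rq q _).mp (hunit _ h1) hr'q
  refine ⟨t * r', algebraMap R A t * s',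
    fun h => (‹q.IsPrime›.mem_or_mem h).elim ht hr',
    fun h => (‹p.IsPrime›.mem_or_mem h).elim (hnotq t ht) hs', ?_⟩
  intro C _ _ _ _ _
  have hdvd1 : IsUnit (algebraMap A C (algebraMap R A t)) :=
    IsLocalization.Away.isUnit_of_dvd (S := C) (x := algebraMap R A t * s') (Dvd.intro _ rfl)
  have hu : IsUnit (algebraMap R C t) := by rwa [IsScalarTower.algebraMap_apply R A C]
  have hs₀u : IsUnit (algebraMap A C s₀) :=
    IsLocalization.Away.isUnit_of_dvd (S := C) (x := algebraMap R A t * s')
      ⟨algebraMap R A t * algebraMap R A t ^ k, by show _ = s₀ * _; ring⟩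
  refine away_of_section t r' s' (Localization.Away t) σ hσs' C hu ?_
  have hLalg : ∀ x, IsLocalization.Away.lift (S := Localization.Away t) t hu
      (algebraMap R (Localization.Away t) x) = algebraMap R C x :=
    IsLocalization.Away.lift_eq t hu
  have hcomp : (algebraMap A C).comp f.toRingHom =
      ((IsLocalization.Away.lift (S := Localization.Away t) t hu).comp σ.toRingHom).comp
        f.toRingHom := by
    apply MvPolynomial.ringHom_ext
    · intro x
      show algebraMap A C (f (MvPolynomial.C x)) =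
        IsLocalization.Away.lift (S := Localization.Away t) t hu (σ (f (MvPolynomial.C x)))
      rw [← MvPolynomial.algebraMap_eq, AlgHom.commutes, AlgHom.commutes, hLalg,
        ← IsScalarTower.algebraMap_apply]
    · intro i
      show algebraMap A C (f (X i)) =
        IsLocalization.Away.lift (S := Localization.Away t) t hu (σ (f (X i)))
      have h1 := congrArg (algebraMap A C) (hs₀0 i)
      rw [map_mul, map_zero] at h1
      have h2 : algebraMap A C (f (X i) * algebraMap R A t ^ m i - algebraMap R A (ρ i)) = 0 :=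
        hs₀u.mul_left_cancel (h1.trans (mul_zero _).symm)
      rw [map_sub, map_mul, map_pow, ← IsScalarTower.algebraMap_apply,
        ← IsScalarTower.algebraMap_apply, sub_eq_zero] at h2
      have h3 := congrArg (IsLocalization.Away.lift (S := Localization.Away t) t hu) (hm i)
      rw [map_mul, map_pow, hLalg, hLalg] at h3
      exact (hu.pow (m i)).mul_left_injective (h2.trans h3.symm)
  intro a
  obtain ⟨P, rfl⟩ := hf a
  exact RingHom.congr_fun hcomp P

/-- **Local isomorphism, ring level**: if `R → A` is of finite presentation, or of finite type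
with `R → R_q` injective, and `R_q → A_p` is bijective, then some principal localization `A_a`
with `a ∉ p` is a principal localization `R_r` of `R` with `r ∉ q`. -/
theorem exists_away_of_bijective (q : Ideal R) [q.IsPrime] (p : Ideal A) [p.IsPrime]
    (Rq Ap : Type u) [CommRing Rq] [CommRing Ap] [Algebra R Rq] [Algebra A Ap]
    [IsLocalization.AtPrime Rq q] [IsLocalization.AtPrime Ap p]
    (ℓ : Rq →+* Ap) (hℓ : ∀ r, ℓ (algebraMap R Rq r) = algebraMap A Ap (algebraMap R A r))
    (hbij : Function.Bijective ℓ)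
    (h : Algebra.FinitePresentation R A ∨
      (Algebra.FiniteType R A ∧ Function.Injective (algebraMap R Rq))) :
    ∃ (r : R) (a : A), r ∉ q ∧ a ∉ p ∧
      ∀ (C : Type u) [CommRing C] [Algebra A C] [Algebra R C] [IsScalarTower R A C]
        [IsLocalization.Away a C], IsLocalization.Away r C := by
  rcases h with hfp | ⟨hft, hinj⟩
  · obtain ⟨n, f, hf, hker⟩ := hfp.out
    obtain ⟨t, ht, σ, hσ⟩ := exists_section_away_aux q p Rq Ap ℓ hℓ hbij n f hf (Or.inl hker)
    exact exists_away_of_section q p Rq Ap ℓ hℓ hbij n f hf t ht σ hσ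
  · obtain ⟨n, f, hf⟩ := Algebra.FiniteType.iff_quotient_mvPolynomial''.mp hft
    obtain ⟨t, ht, σ, hσ⟩ := exists_section_away_aux q p Rq Ap ℓ hℓ hbij n f hf (Or.inr hinj)
    exact exists_away_of_section q p Rq Ap ℓ hℓ hbij n f hf t ht σ hσ

end Groth.Agent.Lib.Helper6.LocIso
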