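import Mathlib
import Groth.Agent.Lib.Helper6.LocIso.Ring

/-!
# Local isomorphisms from isomorphisms of local rings (scheme level)
-/

set_option autoImplicit false
universe u

namespace Groth.Agent.Lib.Helper6.LocIso

open AlgebraicGeometry CategoryTheory TopologicalSpace Opposite MorphismProperty

/-- Core: with affine opens `x ∈ U₁ ⊆ f⁻¹ V₁` for which the ring map is of finite presentation (or
of finite type with injective germ map on `V₁`) and the stalk map is an isomorphism, `f` restricts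
to an isomorphism of basic opens. -/
theorem exists_isIso_resLE_aux {X Y : Scheme.{u}} (f : X ⟶ Y) (x : X)
    (hiso : IsIso (f.stalkMap x))
    (V₁ : Y.Opens) (hV₁ : IsAffineOpen V₁) (U₁ : X.Opens) (hU₁ : IsAffineOpen U₁)
    (e : U₁ ≤ f ⁻¹ᵁ V₁) (hx : x ∈ U₁)
    (h : RingHom.FinitePresentation (f.appLE V₁ U₁ e).hom ∨
      (RingHom.FiniteType (f.appLE V₁ U₁ e).hom ∧
        Function.Injective (Y.presheaf.germ V₁ (f x) (e hx)))) :
    ∃ (U : X.Opens) (V : Y.Opens) (hUV : U ≤ f ⁻¹ᵁ V), x ∈ U ∧ U ≤ U₁ ∧ V ≤ V₁ ∧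
      IsAffineOpen U ∧ IsAffineOpen V ∧ IsIso (f.resLE V U hUV) := by
  let _ : Algebra Γ(Y, V₁) Γ(X, U₁) := (f.appLE V₁ U₁ e).hom.toAlgebra
  let _ : Algebra Γ(Y, V₁) (Y.presheaf.stalk (f x)) := Y.presheaf.algebra_section_stalk ⟨f x, e hx⟩
  have locY := hV₁.isLocalization_stalk ⟨f x, e hx⟩
  let _ : Algebra Γ(X, U₁) (X.presheaf.stalk x) := X.presheaf.algebra_section_stalk ⟨x, hx⟩
  have locX := hU₁.isLocalization_stalk ⟨x, hx⟩
  have hℓ : ∀ r : Γ(Y, V₁), (f.stalkMap x).hom (algebraMap Γ(Y, V₁) (Y.presheaf.stalk (f x)) r) =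
      algebraMap Γ(X, U₁) (X.presheaf.stalk x) (algebraMap Γ(Y, V₁) Γ(X, U₁) r) := by
    intro r
    simp only [RingHom.algebraMap_toAlgebra, Scheme.Hom.germ_stalkMap_apply, Scheme.Hom.appLE,
      homOfLE_leOfHom, CommRingCat.hom_comp, RingHom.coe_comp, Function.comp_apply,
      X.presheaf.germ_res_apply]
  have hbij : Function.Bijective (f.stalkMap x).hom :=
    ConcreteCategory.bijective_of_isIso (f.stalkMap x)
  obtain ⟨r, a, hr, ha, HC⟩ := exists_away_of_bijective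
    (hV₁.primeIdealOf ⟨f x, e hx⟩).asIdeal (hU₁.primeIdealOf ⟨x, hx⟩).asIdeal
    (Y.presheaf.stalk (f x)) (X.presheaf.stalk x) (f.stalkMap x).hom hℓ hbij h
  -- memberships
  have hxa : x ∈ X.basicOpen a := by
    rw [Scheme.mem_basicOpen X a x hx]
    exact (IsLocalization.AtPrime.isUnit_to_map_iff (X.presheaf.stalk x)
      (hU₁.primeIdealOf ⟨x, hx⟩).asIdeal a).mpr ha
  -- the algebra structures on sections over basic opens
  let iU : X.basicOpen a ⟶ U₁ := homOfLE (X.basicOpen_le a)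
  let iV : Y.basicOpen r ⟶ V₁ := homOfLE (Y.basicOpen_le r)
  let _ : Algebra Γ(X, U₁) Γ(X, X.basicOpen a) := (X.presheaf.map iU.op).hom.toAlgebra
  have locA : IsLocalization.Away a Γ(X, X.basicOpen a) := hU₁.isLocalization_basicOpen a
  let _ : Algebra Γ(Y, V₁) Γ(X, X.basicOpen a) :=
    ((X.presheaf.map iU.op).hom.comp (f.appLE V₁ U₁ e).hom).toAlgebra
  have tower : IsScalarTower Γ(Y, V₁) Γ(X, U₁) Γ(X, X.basicOpen a) :=
    IsScalarTower.of_algebraMap_eq fun _ => rfl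
  have locR : IsLocalization.Away r Γ(X, X.basicOpen a) := HC Γ(X, X.basicOpen a)
  let _ : Algebra Γ(Y, V₁) Γ(Y, Y.basicOpen r) := (Y.presheaf.map iV.op).hom.toAlgebra
  have locV : IsLocalization.Away r Γ(Y, Y.basicOpen r) := hV₁.isLocalization_basicOpen r
  -- containment
  have hUV : X.basicOpen a ≤ f ⁻¹ᵁ Y.basicOpen r := by
    have hunit : IsUnit (X.presheaf.map iU.op (f.appLE V₁ U₁ e r)) :=
      IsLocalization.Away.algebraMap_isUnit (S := Γ(X, X.basicOpen a)) r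
    have h1 := Scheme.basicOpen_of_isUnit X hunit
    rw [Scheme.basicOpen_res, Scheme.basicOpen_appLE] at h1
    intro z hz
    have : z ∈ X.basicOpen a ⊓ (U₁ ⊓ f ⁻¹ᵁ Y.basicOpen r) := by rw [h1]; exact hz
    exact this.2.2
  refine ⟨X.basicOpen a, Y.basicOpen r, hUV, hxa, X.basicOpen_le a, Y.basicOpen_le r,
    hU₁.basicOpen a, hV₁.basicOpen r, ?_⟩
  have affU : IsAffine (X.basicOpen a).toScheme := hU₁.basicOpen a
  have affV : IsAffine (Y.basicOpen r).toScheme := hV₁.basicOpen r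
  suffices hbijψ : Function.Bijective (f.appLE (Y.basicOpen r) (X.basicOpen a) hUV).hom by
    have h1 : IsIso (f.appLE (Y.basicOpen r) (X.basicOpen a) hUV) :=
      (ConcreteCategory.isIso_iff_bijective _).mpr hbijψ
    have h2 : IsIso (f.resLE (Y.basicOpen r) (X.basicOpen a) hUV).appTop :=
      ((isomorphisms _).arrow_mk_iso_iff
        (arrowResLEAppIso f (Y.basicOpen r) (X.basicOpen a) hUV)).mpr h1
    exact (arrow_mk_iso_iff (isomorphisms _)
      (arrowIsoSpecΓOfIsAffine (f.resLE (Y.basicOpen r) (X.basicOpen a) hUV))).mpr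
      (inferInstanceAs (IsIso (Spec.map (f.resLE (Y.basicOpen r) (X.basicOpen a) hUV).appTop)))
  -- the map is an algebra hom between localizations
  let ψ : Γ(Y, Y.basicOpen r) →ₐ[Γ(Y, V₁)] Γ(X, X.basicOpen a) :=
    { (f.appLE (Y.basicOpen r) (X.basicOpen a) hUV).hom with
      commutes' := fun s => by
        show f.appLE (Y.basicOpen r) (X.basicOpen a) hUV (Y.presheaf.map iV.op s) =
          X.presheaf.map iU.op (f.appLE V₁ U₁ e s)
        rw [← CommRingCat.comp_apply, ← CommRingCat.comp_apply, Scheme.Hom.map_appLE,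
          Scheme.Hom.appLE_map] }
  have hψ : ψ = (IsLocalization.algEquiv (Submonoid.powers r) Γ(Y, Y.basicOpen r)
      Γ(X, X.basicOpen a)).toAlgHom := by
    have := IsLocalization.algHom_subsingleton (Submonoid.powers r)
      (S := Γ(Y, Y.basicOpen r)) (P := Γ(X, X.basicOpen a))
    exact Subsingleton.elim _ _
  show Function.Bijective ψ
  rw [hψ]
  exact (IsLocalization.algEquiv (Submonoid.powers r) Γ(Y, Y.basicOpen r)
      Γ(X, X.basicOpen a)).bijective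


/-- **Local isomorphism criterion.** If `f` is locally of finite presentation (or locally of finite
type with `Y` germ-injective at `f x`) and the stalk map at `x` is an isomorphism, then `f`
restricts to an isomorphism between arbitrarily small affine open neighbourhoods of `x`
and `f x`. -/
theorem exists_isIso_resLE {X Y : Scheme.{u}} (f : X ⟶ Y) (x : X)
    (hiso : IsIso (f.stalkMap x))
    (h : LocallyOfFinitePresentation f ∨ (LocallyOfFiniteType f ∧ Y.IsGermInjectiveAt (f x)))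
    (X₀ : X.Opens) (hX₀ : x ∈ X₀) (Y₀ : Y.Opens) (hY₀ : f x ∈ Y₀) :
    ∃ (U : X.Opens) (V : Y.Opens) (hUV : U ≤ f ⁻¹ᵁ V), x ∈ U ∧ U ≤ X₀ ∧ V ≤ Y₀ ∧
      IsAffineOpen U ∧ IsAffineOpen V ∧ IsIso (f.resLE V U hUV) := by
  rcases h with h | ⟨hft, hgi⟩
  · obtain ⟨V₁, hV₁, hyV₁, hV₁Y₀⟩ := exists_isAffineOpen_mem_and_subset hY₀
    obtain ⟨U₁, hU₁, hxU₁, hU₁le⟩ :=
      exists_isAffineOpen_mem_and_subset (x := x) (U := X₀ ⊓ f ⁻¹ᵁ V₁) ⟨hX₀, hyV₁⟩
    have e : U₁ ≤ f ⁻¹ᵁ V₁ := fun z hz => (hU₁le hz).2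
    obtain ⟨U, V, hUV, hxU, hUU₁, hVV₁, hU, hV, hIso⟩ :=
      exists_isIso_resLE_aux f x hiso V₁ hV₁ U₁ hU₁ e hxU₁
        (Or.inl (HasRingHomProperty.appLE (P := @LocallyOfFinitePresentation) f h
          ⟨V₁, hV₁⟩ ⟨U₁, hU₁⟩ e))
    exact ⟨U, V, hUV, hxU, fun z hz => (hU₁le (hUU₁ hz)).1, fun z hz => hV₁Y₀ (hVV₁ hz),
      hU, hV, hIso⟩
  · obtain ⟨V₁, hyV₁, hV₁, hV₁Y₀, hinj⟩ := Y.exists_le_and_germ_injective (f x) Y₀ hY₀
    obtain ⟨U₁, hU₁, hxU₁, hU₁le⟩ :=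
      exists_isAffineOpen_mem_and_subset (x := x) (U := X₀ ⊓ f ⁻¹ᵁ V₁) ⟨hX₀, hyV₁⟩
    have e : U₁ ≤ f ⁻¹ᵁ V₁ := fun z hz => (hU₁le hz).2
    obtain ⟨U, V, hUV, hxU, hUU₁, hVV₁, hU, hV, hIso⟩ :=
      exists_isIso_resLE_aux f x hiso V₁ hV₁ U₁ hU₁ e hxU₁
        (Or.inr ⟨HasRingHomProperty.appLE (P := @LocallyOfFiniteType) f hft
          ⟨V₁, hV₁⟩ ⟨U₁, hU₁⟩ e, hinj⟩)
    exact ⟨U, V, hUV, hxU, fun z hz => (hU₁le (hUU₁ hz)).1, fun z hz => hV₁Y₀ (hVV₁ hz),
      hU, hV, hIso⟩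

end Groth.Agent.Lib.Helper6.LocIso
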