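import Mathlib
import Groth.Agent.Lib.Helper6.LocIso.Sch
import Groth.Agent.Lib.Helper6.LocIso.Top

/-!
# Birational morphisms are isomorphisms over dense opens
-/

set_option autoImplicit false
universe u

namespace Groth.Agent.Lib.Helper6.LocIso

open AlgebraicGeometry CategoryTheory TopologicalSpace Opposite MorphismProperty

theorem resLE_apply_coe {X Y : Scheme.{u}} (f : X ⟶ Y) (V' : Y.Opens) (U' : X.Opens)
    (e : U' ≤ f ⁻¹ᵁ V') (p : U'.toScheme) : ((f.resLE V' U' e) p).1 = f p.1 := by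
  have := congrArg (fun h : U'.toScheme ⟶ Y => h p) (Scheme.Hom.resLE_comp_ι f e)
  exact this

/-- A reduced scheme with finitely many irreducible components is germ-injective at the generic
points of its components. -/
theorem isGermInjectiveAt_of_generic {Y : Scheme.{u}} [IsReduced Y]
    (hYfin : (irreducibleComponents Y).Finite) (y : Y)
    (hy : closure {y} ∈ irreducibleComponents Y) : Y.IsGermInjectiveAt y := by
  let Y₀ : Y.Opens := ⟨compOpen (closure {y}), isOpen_compOpen hYfin _⟩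
  have hy₀ : y ∈ Y₀ := mem_compOpen_of_closure_mem hy
  have hirr : IsIrreducible (Y₀ : Set Y) :=
    ⟨⟨y, hy₀⟩, hy.1.2.open_subset Y₀.2 (compOpen_subset hy)⟩
  have : IrreducibleSpace Y₀.toScheme := Subtype.irreducibleSpace hirr
  have : IsIntegral Y₀.toScheme := isIntegral_of_irreducibleSpace_of_isReduced _
  have h' : Y₀.toScheme.IsGermInjective := inferInstance
  have h : Y₀.toScheme.IsGermInjectiveAt ⟨y, hy₀⟩ := h' ⟨y, hy₀⟩
  exact (isGermInjectiveAt_iff_of_isOpenImmersion (f := Y₀.ι) (x := ⟨y, hy₀⟩)).mpr h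


/-- **Birational morphisms are generically isomorphisms.** -/
theorem exists_dense_iso {X Y : Scheme.{u}} (f : X ⟶ Y)
    (hXfin : (irreducibleComponents X).Finite) (hYfin : (irreducibleComponents Y).Finite)
    (hbij : Set.BijOn (fun x : X => f.base x) {x : X | closure {x} ∈ irreducibleComponents X}
      {y : Y | closure {y} ∈ irreducibleComponents Y})
    (hiso : ∀ x : X, closure {x} ∈ irreducibleComponents X → IsIso (f.stalkMap x))
    (hf : (LocallyOfFiniteType f ∧ IsReduced Y) ∨ LocallyOfFinitePresentation f) :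
    ∃ (U : X.Opens) (V : Y.Opens) (hUV : U ≤ f ⁻¹ᵁ V), Dense (U : Set X) ∧ Dense (V : Set Y) ∧
      IsIso (f.resLE V U hUV) := by
  classical
  -- Step A/B : local isomorphisms near each generic point
  have hloc : ∀ i : {x : X // closure {x} ∈ irreducibleComponents X},
      ∃ (U : X.Opens) (V : Y.Opens) (hUV : U ≤ f ⁻¹ᵁ V), i.1 ∈ U ∧
        V.1 ⊆ compOpen (closure {f i.1}) ∧ IsIso (f.resLE V U hUV) := by
    rintro ⟨x, hx⟩
    have hfx : closure {f x} ∈ irreducibleComponents Y := hbij.mapsTo hx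
    have hcond : LocallyOfFinitePresentation f ∨
        (LocallyOfFiniteType f ∧ Y.IsGermInjectiveAt (f x)) := by
      rcases hf with ⟨h1, h2⟩ | h
      · exact Or.inr ⟨h1, isGermInjectiveAt_of_generic hYfin (f x) hfx⟩
      · exact Or.inl h
    obtain ⟨U, V, hUV, hxU, -, hVle, -, -, hIso⟩ :=
      exists_isIso_resLE f x (hiso x hx) hcond ⊤ trivial
        ⟨compOpen (closure {f x}), isOpen_compOpen hYfin _⟩ (mem_compOpen_of_closure_mem hfx)
    exact ⟨U, V, hUV, hxU, hVle, hIso⟩
  choose Ux Vx hUVx hxU hVle hIso using hloc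
  let U : X.Opens := ⨆ i, Ux i
  let V : Y.Opens := ⨆ i, Vx i
  have hUV : U ≤ f ⁻¹ᵁ V :=
    iSup_le fun i => (hUVx i).trans (f.preimage_mono (le_iSup Vx i))
  -- disjointness
  have hdisj : ∀ i j, ∀ y : Y, y ∈ Vx i → y ∈ Vx j → i = j := by
    intro i j y hyi hyj
    by_contra hne
    have hfne : closure {f i.1} ≠ closure {f j.1} := by
      intro heq
      have h1 : f i.1 = f j.1 := ((inseparable_iff_closure_eq).mpr heq).eq
      exact hne (Subtype.ext (hbij.injOn i.2 j.2 h1))
    exact Set.disjoint_left.mp (disjoint_compOpen (hbij.mapsTo i.2) hfne) (hVle i hyi) (hVle j hyj)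
  refine ⟨U, V, hUV, ?_, ?_, ?_⟩
  · refine dense_of_isOpen_of_generic_mem U.2 fun x hx => ?_
    exact (le_iSup Ux ⟨x, hx⟩) (hxU ⟨x, hx⟩)
  · refine dense_of_isOpen_of_generic_mem V.2 fun y hy => ?_
    obtain ⟨x, hx, rfl⟩ := hbij.surjOn hy
    exact (le_iSup Vx ⟨x, hx⟩) (hUVx ⟨x, hx⟩ (hxU ⟨x, hx⟩))
  · -- the glued morphism is an isomorphism
    set g := f.resLE V U hUV with hg
    have hmemU : ∀ u : U.toScheme, ∃ i, u.1 ∈ Ux i := fun u => Opens.mem_iSup.mp u.2
    have hmemV : ∀ v : V.toScheme, ∃ i, v.1 ∈ Vx i := fun v => Opens.mem_iSup.mp v.2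
    have hbiji : ∀ i, Function.Bijective (f.resLE (Vx i) (Ux i) (hUVx i)) := fun i => by
      have := hIso i
      exact ConcreteCategory.bijective_of_isIso (f.resLE (Vx i) (Ux i) (hUVx i)).base
    have hinj : Function.Injective g := by
      intro u u' huu'
      have h1 : f u.1 = f u'.1 := by
        rw [← resLE_apply_coe f V U hUV u, ← resLE_apply_coe f V U hUV u']
        exact congrArg Subtype.val huu'
      obtain ⟨i, hi⟩ := hmemU u
      obtain ⟨j, hj⟩ := hmemU u'
      have hij : i = j := hdisj i j (f u.1) (hUVx i hi) (h1 ▸ hUVx j hj)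
      subst hij
      have h2 : (f.resLE (Vx i) (Ux i) (hUVx i)) ⟨u.1, hi⟩ =
          (f.resLE (Vx i) (Ux i) (hUVx i)) ⟨u'.1, hj⟩ := by
        apply Subtype.ext
        exact (resLE_apply_coe f (Vx i) (Ux i) (hUVx i) ⟨u.1, hi⟩).trans
          (h1.trans (resLE_apply_coe f (Vx i) (Ux i) (hUVx i) ⟨u'.1, hj⟩).symm)
      have h3 := (hbiji i).1 h2
      have h4 : u.1 = u'.1 := by
        have h' := congrArg (fun z : (Ux i).toScheme => (z.1 : X)) h3
        exact h'
      exact Subtype.ext h4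
    have hopen : IsOpenImmersion g := by
      refine IsOpenImmersion.of_forall_source_exists g hinj fun u => ?_
      obtain ⟨i, hi⟩ := hmemU u
      refine ⟨(Ux i).toScheme, X.homOfLE (le_iSup Ux i), inferInstance,
        ⟨⟨u.1, hi⟩, X.homOfLE_apply' _ _ _⟩, ?_⟩
      have h1 : X.homOfLE (le_iSup Ux i) ≫ g =
          f.resLE (Vx i) (Ux i) (hUVx i) ≫ Y.homOfLE (le_iSup Vx i) := by
        rw [hg, Scheme.Hom.map_resLE, Scheme.Hom.resLE_map]
      rw [h1]
      have := hIso i
      infer_instance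
    have hsurj : Surjective g := by
      refine ⟨fun v => ?_⟩
      obtain ⟨i, hi⟩ := hmemV v
      obtain ⟨w, hw⟩ := (hbiji i).2 ⟨v.1, hi⟩
      refine ⟨⟨w.1, le_iSup Ux i w.2⟩, Subtype.ext ?_⟩
      have h5 : f w.1 = v.1 :=
        (resLE_apply_coe f (Vx i) (Ux i) (hUVx i) w).symm.trans (congrArg Subtype.val hw)
      exact (resLE_apply_coe f V U hUV ⟨w.1, le_iSup Ux i w.2⟩).trans h5
    exact (isIso_iff_isOpenImmersion_and_surjective g).mpr ⟨hopen, hsurj⟩

end Groth.Agent.Lib.Helper6.LocIso
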