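import Mathlib
import Groth.Agent.Lib.Helper6.LocIso.QFGeneric

/-!
# The fibre of a birational morphism over a generic point is a single point
-/

set_option autoImplicit false
universe u

namespace Groth.Agent.Lib.Helper6.LocIso

open AlgebraicGeometry CategoryTheory TopologicalSpace

variable {X Y : Scheme.{u}} (f : X ⟶ Y)

/-- If `ξ ⤳ z` lie over the same point and the stalk map at `ξ` is an isomorphism,
then `z = ξ`. -/
theorem eq_of_specializes_of_isIso_stalkMap {ξ z : X} (h : ξ ⤳ z) (hfz : f z = f ξ)
    (hiso : IsIso (f.stalkMap ξ)) : z = ξ := by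
  have key := Scheme.Hom.stalkSpecializes_stalkMap f ξ z h
  have hYiso : IsIso (Y.presheaf.stalkSpecializes (f.base.hom.map_specializes h)) :=
    inferInstanceAs (IsIso (Y.presheaf.stalkCongr (Inseparable.of_eq hfz)).hom)
  have hcomp : IsIso (f.stalkMap z ≫ X.presheaf.stalkSpecializes h) := by
    rw [← key]; infer_instance
  have hsurj : Function.Surjective (X.presheaf.stalkSpecializes h).hom := by
    intro a
    obtain ⟨b, hb⟩ := (ConcreteCategory.bijective_of_isIso
      (f.stalkMap z ≫ X.presheaf.stalkSpecializes h)).2 a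
    exact ⟨f.stalkMap z b, hb⟩
  have hloc : IsLocalHom (X.presheaf.stalkSpecializes h).hom :=
    IsLocalHom.of_surjective _ hsurj
  have h1 := IsLocalRing.comap_closedPoint (X.presheaf.stalkSpecializes h).hom
  have h2 := congrArg (fun g : Spec (X.presheaf.stalk ξ) ⟶ X =>
    g (IsLocalRing.closedPoint (X.presheaf.stalk ξ)))
    (Scheme.SpecMap_stalkSpecializes_fromSpecStalk h)
  simp only [Scheme.fromSpecStalk_closedPoint] at h2
  have h3 : (Spec.map (X.presheaf.stalkSpecializes h))
      (IsLocalRing.closedPoint (X.presheaf.stalk ξ)) =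
      IsLocalRing.closedPoint (X.presheaf.stalk z) := h1
  have h4 : (Spec.map (X.presheaf.stalkSpecializes h) ≫ X.fromSpecStalk z)
      (IsLocalRing.closedPoint (X.presheaf.stalk ξ)) =
      X.fromSpecStalk z ((Spec.map (X.presheaf.stalkSpecializes h))
        (IsLocalRing.closedPoint (X.presheaf.stalk ξ))) := rfl
  exact (h2.symm.trans (h4.trans ((congrArg (X.fromSpecStalk z) h3).trans
    Scheme.fromSpecStalk_closedPoint))).symm

end Groth.Agent.Lib.Helper6.LocIso
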