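import Mathlib
import Groth.Agent.Lib.Helper6.LocIso.QFGeneric

/-!
# Shrinking neighbourhoods of generic points along quasi-compact morphisms
-/

set_option autoImplicit false
universe u

namespace Groth.Agent.Lib.Helper6.LocIso

open AlgebraicGeometry CategoryTheory TopologicalSpace

/-- Ring level: if a minimal prime `q` is not in the image of a closed set `t`, then some
`s ∉ q` vanishes on `t` after applying `φ`. -/
theorem exists_notMem_map_mem_vanishingIdeal {R A : Type u} [CommRing R] [CommRing A]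
    (φ : R →+* A) (q : PrimeSpectrum R) (hq : ∀ Q : PrimeSpectrum R, Q ≤ q → Q = q)
    (t : Set (PrimeSpectrum A)) (ht : IsClosed t)
    (hqt : ∀ P ∈ t, PrimeSpectrum.comap φ P ≠ q) :
    ∃ s : R, s ∉ q.asIdeal ∧ φ s ∈ PrimeSpectrum.vanishingIdeal t := by
  by_contra hcon0
  have hcon : ∀ s, s ∉ q.asIdeal → φ s ∉ PrimeSpectrum.vanishingIdeal t :=
    fun s h1 h2 => hcon0 ⟨s, h1, h2⟩
  have hle : (PrimeSpectrum.vanishingIdeal t).comap φ ≤ q.asIdeal :=
    fun s hs => by_contra fun h => hcon s h hs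
  have hmin : q.asIdeal ∈ ((PrimeSpectrum.vanishingIdeal t).comap φ).minimalPrimes := by
    refine ⟨⟨q.isPrime, hle⟩, fun Q ⟨hQ, _⟩ hQq => ?_⟩
    have := hq ⟨Q, hQ⟩ hQq
    exact le_of_eq (congrArg PrimeSpectrum.asIdeal this).symm
  obtain ⟨P', hP', hIP', hcomap⟩ := Ideal.exists_comap_eq_of_mem_minimalPrimes φ q.asIdeal hmin
  have hmem : (⟨P', hP'⟩ : PrimeSpectrum A) ∈ t := by
    rw [← ht.closure_eq, ← PrimeSpectrum.zeroLocus_vanishingIdeal_eq_closure]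
    exact hIP'
  exact hqt _ hmem (PrimeSpectrum.ext hcomap)


/-- Affine-local step: a generic point `η` not in the image of a closed set `K` has a basic open
neighbourhood whose preimage misses `K ∩ W`. -/
theorem exists_open_disjoint_affine {X Y : Scheme.{u}} (f : X ⟶ Y) (V : Y.Opens)
    (hV : IsAffineOpen V) (W : X.Opens) (hW : IsAffineOpen W) (e : W ≤ f ⁻¹ᵁ V)
    (K : Set X) (hK : IsClosed K) (η : Y) (hηV : η ∈ V)
    (hη : closure {η} ∈ irreducibleComponents Y) (hKη : ∀ z ∈ K, f z ≠ η) :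
    ∃ N : Y.Opens, η ∈ N ∧ ∀ z ∈ K, z ∈ W → f z ∉ N := by
  have hqη : hV.fromSpec (hV.primeIdealOf ⟨η, hηV⟩) = η := hV.fromSpec_primeIdealOf ⟨η, hηV⟩
  have hpt : ∀ P : Spec Γ(X, W), f (hW.fromSpec P) =
      hV.fromSpec (Spec.map (f.appLE V W e) P) := by
    intro P
    have := congrArg (fun g : Spec Γ(X, W) ⟶ Y => g P)
      (IsAffineOpen.SpecMap_appLE_fromSpec f hV hW e)
    exact this.symm
  have hq : ∀ Q : PrimeSpectrum Γ(Y, V), Q ≤ hV.primeIdealOf ⟨η, hηV⟩ →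
      Q = hV.primeIdealOf ⟨η, hηV⟩ := by
    intro Q hQ
    have h1 : Q ⤳ hV.primeIdealOf ⟨η, hηV⟩ := (PrimeSpectrum.le_iff_specializes _ _).mp hQ
    have h2 : hV.fromSpec Q ⤳ η := hqη ▸ h1.map hV.fromSpec.continuous
    have h3 := eq_of_specializes_of_closure_mem hη h2
    exact hV.fromSpec.isOpenEmbedding.injective (h3.trans hqη.symm)
  obtain ⟨s, hs, hsI⟩ := exists_notMem_map_mem_vanishingIdeal (f.appLE V W e).hom
    (hV.primeIdealOf ⟨η, hηV⟩) hq (hW.fromSpec ⁻¹' K) (hK.preimage hW.fromSpec.continuous)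
    (by
      intro P hP hPq
      refine hKη _ hP ?_
      rw [hpt P]
      exact (congrArg hV.fromSpec hPq).trans hqη)
  have hpre := hV.fromSpec_preimage_basicOpen s
  refine ⟨Y.basicOpen s, ?_, ?_⟩
  · have : hV.primeIdealOf ⟨η, hηV⟩ ∈ hV.fromSpec ⁻¹ᵁ Y.basicOpen s := by
      rw [hpre]; exact hs
    exact hqη ▸ this
  · intro z hzK hzW hfz
    have hzP : hW.fromSpec (hW.primeIdealOf ⟨z, hzW⟩) = z := hW.fromSpec_primeIdealOf ⟨z, hzW⟩
    have hPt : hW.primeIdealOf ⟨z, hzW⟩ ∈ hW.fromSpec ⁻¹' K := by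
      show hW.fromSpec _ ∈ K
      rw [hzP]; exact hzK
    have h1 : (f.appLE V W e).hom s ∈ (hW.primeIdealOf ⟨z, hzW⟩).asIdeal :=
      (PrimeSpectrum.mem_vanishingIdeal _ _).mp hsI _ hPt
    have h2 : Spec.map (f.appLE V W e) (hW.primeIdealOf ⟨z, hzW⟩) ∈
        hV.fromSpec ⁻¹ᵁ Y.basicOpen s := by
      have h2' : hV.fromSpec (Spec.map (f.appLE V W e) (hW.primeIdealOf ⟨z, hzW⟩)) = f z :=
        (hpt _).symm.trans (congrArg (fun w => f w) hzP)
      exact Eq.mpr (congrArg (fun w => w ∈ Y.basicOpen s) h2') hfz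
    rw [hpre] at h2
    exact h2 h1


/-- For a quasi-compact morphism, if the fibre over a generic point `η` lies in an open `U₀`,
then so does the preimage of a neighbourhood of `η`. -/
theorem exists_open_preimage_le_of_quasiCompact {X Y : Scheme.{u}} (f : X ⟶ Y) [QuasiCompact f]
    (U₀ : X.Opens) (η : Y) (hη : closure {η} ∈ irreducibleComponents Y)
    (hfib : ∀ z, f z = η → z ∈ U₀) :
    ∃ N : Y.Opens, η ∈ N ∧ f ⁻¹ᵁ N ≤ U₀ := by
  obtain ⟨V, hV, hηV, -⟩ := exists_isAffineOpen_mem_and_subset (x := η) (U := ⊤) trivial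
  have hcpt : IsCompact (f ⁻¹ᵁ V : Set X) := f.isCompact_preimage hV.isCompact
  obtain ⟨S, hSfin, hS⟩ := isCompact_iff_finite_and_eq_biUnion_affineOpens.mp hcpt
  have hKη : ∀ z ∈ ((U₀ : Set X)ᶜ), f z ≠ η := fun z hz h => hz (hfib z h)
  have hle : ∀ W : S, (W.1 : X.Opens) ≤ f ⁻¹ᵁ V := fun W => by
    rw [hS]; exact le_iSup₂ (f := fun (i : X.affineOpens) (_ : i ∈ S) => (i : X.Opens)) W.1 W.2
  have hN : ∀ W : S, ∃ N : Y.Opens, η ∈ N ∧ ∀ z ∈ ((U₀ : Set X)ᶜ), z ∈ (W.1 : X.Opens) →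
      f z ∉ N := fun W =>
    exists_open_disjoint_affine f V hV W.1 W.1.2 (hle W) _ U₀.2.isClosed_compl η hηV hη hKη
  choose N hN1 hN2 using hN
  have : Finite S := hSfin.to_subtype
  refine ⟨⟨(V : Set Y) ∩ ⋂ W : S, (N W : Set Y),
    V.2.inter (isOpen_iInter_of_finite fun W => (N W).2)⟩, ⟨hηV, Set.mem_iInter.mpr hN1⟩, ?_⟩
  intro z hz
  by_contra hzU
  have hzV : z ∈ f ⁻¹ᵁ V := hz.1
  rw [hS] at hzV
  obtain ⟨W, hzW⟩ := Opens.mem_iSup.mp hzV
  obtain ⟨hWS, hzW'⟩ := Opens.mem_iSup.mp hzW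
  exact hN2 ⟨W, hWS⟩ z hzU hzW' (Set.mem_iInter.mp hz.2 ⟨W, hWS⟩)

end Groth.Agent.Lib.Helper6.LocIso
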