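import Mathlib
import Groth.Agent.Lib.Helper6.LocIso.Dense
import Groth.Agent.Lib.Helper6.LocIso.FiberGeneric
import Groth.Agent.Lib.Helper6.LocIso.QCShrink

/-!
# Birational morphisms restrict to isomorphisms over a dense open of the target
-/

set_option autoImplicit false
universe u

namespace Groth.Agent.Lib.Helper6.LocIso

open AlgebraicGeometry CategoryTheory TopologicalSpace MorphismProperty

variable {X Y : Scheme.{u}} (f : X ⟶ Y)

/-- Every point over the generic point of a component is itself generic, for a birational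
morphism. -/
theorem generic_of_map_eq_generic {η : Y} (hη : closure {η} ∈ irreducibleComponents Y)
    (hiso : ∀ x : X, closure {x} ∈ irreducibleComponents X → IsIso (f.stalkMap x))
    {z : X} (hz : f z = η) : closure {z} ∈ irreducibleComponents X := by
  obtain ⟨x', hx'1, hx'2⟩ := exists_generic_specializes z
  have h1 : f x' ⤳ η := hz ▸ hx'2.map f.continuous
  have h2 : f x' = η := eq_of_specializes_of_closure_mem hη h1
  have h3 : z = x' := eq_of_specializes_of_isIso_stalkMap f hx'2 (hz.trans h2.symm)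
    (hiso x' hx'1)
  exact h3 ▸ hx'1

/-- Separated case: the preimage of `V₀` is `U₀`. -/
theorem preimage_le_of_isSeparated [IsSeparated f] (U₀ : X.Opens) (V₀ : Y.Opens)
    (hUV : U₀ ≤ f ⁻¹ᵁ V₀) (hdense : Dense (U₀ : Set X))
    (hIso : IsIso (f.resLE V₀ U₀ hUV)) : f ⁻¹ᵁ V₀ ≤ U₀ := by
  have hcl : IsClosedImmersion (X.homOfLE hUV ≫ f ∣_ V₀) := by
    have : IsIso (X.homOfLE hUV ≫ f ∣_ V₀) := hIso
    infer_instance
  have hj : IsClosedImmersion (X.homOfLE hUV) :=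
    MorphismProperty.of_postcomp (W := @IsClosedImmersion) (W' := @IsSeparated)
      (X.homOfLE hUV) (f ∣_ V₀) inferInstance hcl
  have hclosed : IsClosed (Set.range (X.homOfLE hUV)) := (X.homOfLE hUV).isClosedEmbedding.isClosed_range
  -- the complement of `U₀` in `f⁻¹ V₀` is open in `X`
  have hopen : IsOpen ((f ⁻¹ᵁ V₀).ι '' (Set.range (X.homOfLE hUV))ᶜ) :=
    (f ⁻¹ᵁ V₀).ι.isOpenEmbedding.isOpenMap _ hclosed.isOpen_compl
  intro z hz
  by_contra hzU
  have hmem : z ∈ (f ⁻¹ᵁ V₀).ι '' (Set.range (X.homOfLE hUV))ᶜ := by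
    refine ⟨⟨z, hz⟩, ?_, rfl⟩
    rintro ⟨u, hu⟩
    have h1 : (X.homOfLE hUV u).1 = z := congrArg Subtype.val hu
    have h2 : u.1 = z := (Scheme.homOfLE_apply hUV u).symm.trans h1
    exact hzU (h2 ▸ u.2)
  obtain ⟨w, ⟨w', hw'1, hw'2⟩, hwU⟩ := hdense.inter_open_nonempty _ hopen ⟨z, hmem⟩
  apply hw'1
  refine ⟨⟨w, hwU⟩, Subtype.ext ?_⟩
  exact (Scheme.homOfLE_apply hUV ⟨w, hwU⟩).trans hw'2.symm


/-- If `f : U₀ ⟶ V₀` is an isomorphism and `V ≤ V₀` has `f⁻¹ V ≤ U₀`, then `f⁻¹ V ⟶ V` is an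
isomorphism. -/
theorem isIso_morphismRestrict_of_le (U₀ : X.Opens) (V₀ : Y.Opens)
    (hUV : U₀ ≤ f ⁻¹ᵁ V₀) (hIso : IsIso (f.resLE V₀ U₀ hUV)) (V : Y.Opens) (hV : V ≤ V₀)
    (hle : f ⁻¹ᵁ V ≤ U₀) : IsIso (f ∣_ V) := by
  rw [← Scheme.Hom.resLE_eq_morphismRestrict]
  have h1 : f.resLE V (f ⁻¹ᵁ V) le_rfl ≫ Y.homOfLE hV =
      X.homOfLE hle ≫ f.resLE V₀ U₀ hUV := by
    rw [Scheme.Hom.resLE_map, Scheme.Hom.map_resLE]
  have hopen : IsOpenImmersion (f.resLE V (f ⁻¹ᵁ V) le_rfl ≫ Y.homOfLE hV) := by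
    rw [h1]; infer_instance
  have hopen' : IsOpenImmersion (f.resLE V (f ⁻¹ᵁ V) le_rfl) :=
    IsOpenImmersion.of_comp _ (Y.homOfLE hV)
  have hsurj : Surjective (f.resLE V (f ⁻¹ᵁ V) le_rfl) := by
    refine ⟨fun v => ?_⟩
    obtain ⟨u, hu⟩ := (ConcreteCategory.bijective_of_isIso (f.resLE V₀ U₀ hUV).base).2
      ⟨v.1, hV v.2⟩
    have h2 : f u.1 = v.1 :=
      (resLE_apply_coe f V₀ U₀ hUV u).symm.trans (congrArg Subtype.val hu)
    have hu' : u.1 ∈ f ⁻¹ᵁ V := by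
      show f u.1 ∈ V
      rw [h2]; exact v.2
    exact ⟨⟨u.1, hu'⟩, Subtype.ext ((resLE_apply_coe f V (f ⁻¹ᵁ V) le_rfl ⟨u.1, hu'⟩).trans h2)⟩
  exact (isIso_iff_isOpenImmersion_and_surjective _).mpr ⟨hopen', hsurj⟩

/-- **Birational morphisms are isomorphisms over a dense open of the target**, if quasi-compact or
separated. -/
theorem exists_dense_isIso_morphismRestrict
    (hXfin : (irreducibleComponents X).Finite) (hYfin : (irreducibleComponents Y).Finite)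
    (hbij : Set.BijOn (fun x : X => f.base x) {x : X | closure {x} ∈ irreducibleComponents X}
      {y : Y | closure {y} ∈ irreducibleComponents Y})
    (hiso : ∀ x : X, closure {x} ∈ irreducibleComponents X → IsIso (f.stalkMap x))
    (hf₁ : QuasiCompact f ∨ IsSeparated f)
    (hf₂ : (LocallyOfFiniteType f ∧ IsReduced Y) ∨ LocallyOfFinitePresentation f) :
    ∃ V : Y.Opens, Dense (V : Set Y) ∧ IsIso (f ∣_ V) := by
  obtain ⟨U₀, V₀, hUV, hU₀d, hV₀d, hIso⟩ := exists_dense_iso f hXfin hYfin hbij hiso hf₂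
  obtain ⟨V, hV, hVd, hle⟩ : ∃ V : Y.Opens, V ≤ V₀ ∧ Dense (V : Set Y) ∧ f ⁻¹ᵁ V ≤ U₀ := by
    rcases hf₁ with hqc | hsep
    · have hN : ∀ η : {y : Y // closure {y} ∈ irreducibleComponents Y},
          ∃ N : Y.Opens, η.1 ∈ N ∧ f ⁻¹ᵁ N ≤ U₀ := fun η =>
        exists_open_preimage_le_of_quasiCompact f U₀ η.1 η.2 fun z hz =>
          generic_mem_of_dense_isOpen hXfin U₀.2 hU₀d
            (generic_of_map_eq_generic f η.2 hiso hz)
      choose N hN1 hN2 using hN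
      refine ⟨V₀ ⊓ ⨆ η, N η, inf_le_left, ?_, ?_⟩
      · refine dense_of_isOpen_of_generic_mem (V₀ ⊓ ⨆ η, N η).2 fun y hy => ?_
        exact ⟨generic_mem_of_dense_isOpen hYfin V₀.2 hV₀d hy,
          Opens.mem_iSup.mpr ⟨⟨y, hy⟩, hN1 ⟨y, hy⟩⟩⟩
      · intro z hz
        obtain ⟨η, hη⟩ := Opens.mem_iSup.mp hz.2
        exact hN2 η hη
    · exact ⟨V₀, le_rfl, hV₀d, preimage_le_of_isSeparated f U₀ V₀ hUV hU₀d hIso⟩
  exact ⟨V, hVd, isIso_morphismRestrict_of_le f U₀ V₀ hUV hIso V hV hle⟩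

end Groth.Agent.Lib.Helper6.LocIso
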