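import Mathlib

/-!
# Ring-level lemma for the fibre of a birational morphism over a generic point
-/

set_option autoImplicit false
universe u

namespace Groth.Agent.Lib.Helper6.LocIso

open TensorProduct

/-- If `B = R_q`, `B → A_p` is bijective and every prime of `A ⊗[R] B` contracts to `p`,
then `B → A ⊗[R] B` is bijective. -/
theorem includeRight_bijective_of_unique_prime {R A : Type u} [CommRing R] [CommRing A]
    [Algebra R A] (q : Ideal R) [q.IsPrime] (p : Ideal A) [p.IsPrime]
    (B Ap : Type u) [CommRing B] [CommRing Ap] [Algebra R B] [Algebra A Ap]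
    [IsLocalization.AtPrime B q] [IsLocalization.AtPrime Ap p]
    (ℓ : B →+* Ap) (hℓ : ∀ r, ℓ (algebraMap R B r) = algebraMap A Ap (algebraMap R A r))
    (hbij : Function.Bijective ℓ)
    (H : ∀ P' : Ideal (A ⊗[R] B), P'.IsPrime →
      P'.comap (Algebra.TensorProduct.includeLeftRingHom) = p) :
    Function.Bijective (Algebra.TensorProduct.includeRight : B →ₐ[R] A ⊗[R] B) := by
  let _ : Algebra R Ap := ((algebraMap A Ap).comp (algebraMap R A)).toAlgebra
  have tower : IsScalarTower R A Ap := IsScalarTower.of_algebraMap_eq fun _ => rfl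
  let ℓₐ : B →ₐ[R] Ap := { ℓ with commutes' := hℓ }
  let ψ : A ⊗[R] B →ₐ[R] Ap :=
    Algebra.TensorProduct.lift (IsScalarTower.toAlgHom R A Ap) ℓₐ (fun _ _ => Commute.all _ _)
  have hψ : ∀ a b, ψ (a ⊗ₜ b) = algebraMap A Ap a * ℓ b := fun a b =>
    Algebra.TensorProduct.lift_tmul _ _ _ a b
  have hψR : ∀ b, ψ (Algebra.TensorProduct.includeRight b) = ℓ b := fun b => by
    show ψ (1 ⊗ₜ b) = ℓ b
    rw [hψ, map_one, one_mul]
  have hψL : ∀ a, ψ (algebraMap A (A ⊗[R] B) a) = algebraMap A Ap a := fun a => by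
    rw [Algebra.TensorProduct.algebraMap_apply, hψ, map_one, mul_one]; rfl
  -- units
  have hunit : ∀ t : A, t ∉ p → IsUnit (algebraMap A (A ⊗[R] B) t) := by
    intro t ht
    by_contra hnu
    obtain ⟨m, hm, htm⟩ := exists_max_ideal_of_mem_nonunits hnu
    have h1 := H m hm.isPrime
    have h2 : t ∈ m.comap (Algebra.TensorProduct.includeLeftRingHom) := by
      rw [Ideal.mem_comap]
      have : (Algebra.TensorProduct.includeLeftRingHom : A →+* A ⊗[R] B) t =
          algebraMap A (A ⊗[R] B) t := by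
        rw [Algebra.TensorProduct.algebraMap_apply]; rfl
      rw [this]; exact htm
    exact ht (h1 ▸ h2)
  have hloc : IsLocalization (Algebra.algebraMapSubmonoid A q.primeCompl) (A ⊗[R] B) :=
    IsLocalization.tensor B q.primeCompl
  -- injectivity of ψ
  have hψinj : Function.Injective ψ := by
    rw [injective_iff_map_eq_zero]
    intro d hd
    obtain ⟨a, m, rfl⟩ := IsLocalization.exists_mk'_eq
      (Algebra.algebraMapSubmonoid A q.primeCompl) d
    have h1 : ψ (algebraMap A (A ⊗[R] B) a) = 0 := by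
      rw [← IsLocalization.mk'_spec (A ⊗[R] B) a m, map_mul, hd, zero_mul]
    rw [hψL] at h1
    obtain ⟨⟨t, ht⟩, hta⟩ := (IsLocalization.map_eq_zero_iff p.primeCompl Ap a).mp h1
    have h2 : algebraMap A (A ⊗[R] B) t * algebraMap A (A ⊗[R] B) a = 0 := by
      rw [← map_mul, hta, map_zero]
    have h3 : algebraMap A (A ⊗[R] B) a = 0 :=
      (hunit t ht).mul_right_eq_zero.mp h2
    rw [IsLocalization.mk'_eq_mul_mk'_one, h3, zero_mul]
  refine ⟨fun b b' hbb' => hbij.1 ?_, fun c => ?_⟩
  · rw [← hψR, ← hψR, hbb']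
  · obtain ⟨b, hb⟩ := hbij.2 (ψ c)
    exact ⟨b, hψinj (by rw [hψR, hb])⟩

end Groth.Agent.Lib.Helper6.LocIso
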