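import Mathlib
import Groth.Agent.Lib.Helper6.LocIso.FiberRing
import Groth.Agent.Lib.Helper6.LocIso.DenseRestrict

/-!
# The fibre of a birational morphism over the local ring of a generic point
-/

set_option autoImplicit false
universe u

namespace Groth.Agent.Lib.Helper6.LocIso

open AlgebraicGeometry CategoryTheory CategoryTheory.Limits TopologicalSpace MorphismProperty
open TensorProduct

variable {X Y : Scheme.{u}} (f : X ⟶ Y)

set_option backward.isDefEq.respectTransparency false in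
theorem isIso_pullback_snd_fromSpecStalk_aux (ξ : X) (hy : closure {f ξ} ∈ irreducibleComponents Y)
    (hisoξ : IsIso (f.stalkMap ξ)) (hfib : ∀ z : X, f z = f ξ → z = ξ)
    (V : Y.Opens) (hV : IsAffineOpen V) (hyV : f ξ ∈ V) (U : X.Opens) (hU : IsAffineOpen U)
    (hξU : ξ ∈ U) (e : U ≤ f ⁻¹ᵁ V) :
    IsIso (pullback.snd f (Y.fromSpecStalk (f ξ))) := by
  let _ : Algebra Γ(Y, V) Γ(X, U) := (f.appLE V U e).hom.toAlgebra
  let _ : Algebra Γ(Y, V) (Y.presheaf.stalk (f ξ)) := (Y.presheaf.germ V (f ξ) hyV).hom.toAlgebra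
  -- the affine pullback
  let a : Spec Γ(X, U) ⟶ Spec Γ(Y, V) := Spec.map (f.appLE V U e)
  let b : Spec (Y.presheaf.stalk (f ξ)) ⟶ Spec Γ(Y, V) := Spec.map (Y.presheaf.germ V (f ξ) hyV)
  have e₁ : a ≫ hV.fromSpec = hU.fromSpec ≫ f := IsAffineOpen.SpecMap_appLE_fromSpec f hV hU e
  have e₂ : b ≫ hV.fromSpec = 𝟙 _ ≫ Y.fromSpecStalk (f ξ) := by
    rw [Category.id_comp]
    exact hV.fromSpecStalk_eq_fromSpecStalk hyV
  let m := pullback.map a b f (Y.fromSpecStalk (f ξ)) hU.fromSpec (𝟙 _) hV.fromSpec e₁ e₂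
  have hmopen : IsOpenImmersion m := inferInstance
  -- every point of the big pullback lies over ξ
  have hpt : ∀ p : ↑(pullback f (Y.fromSpecStalk (f ξ))), pullback.fst f (Y.fromSpecStalk (f ξ)) p = ξ := by
    intro p
    apply hfib
    have h1 : f (pullback.fst f (Y.fromSpecStalk (f ξ)) p) =
        Y.fromSpecStalk (f ξ) (pullback.snd f (Y.fromSpecStalk (f ξ)) p) := by
      rw [← Scheme.Hom.comp_apply, pullback.condition, Scheme.Hom.comp_apply]
    have h2 : Y.fromSpecStalk (f ξ) (pullback.snd f (Y.fromSpecStalk (f ξ)) p) ⤳ f ξ := by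
      have : Y.fromSpecStalk (f ξ) (pullback.snd f (Y.fromSpecStalk (f ξ)) p) ∈
          Set.range (Y.fromSpecStalk (f ξ)) := ⟨_, rfl⟩
      rw [Scheme.range_fromSpecStalk] at this
      exact this
    rw [h1]
    exact eq_of_specializes_of_closure_mem hy h2
  have hmsurj : Surjective m := by
    refine ⟨fun p => ?_⟩
    have : p ∈ Set.range m := by
      rw [Scheme.Pullback.range_map]
      refine ⟨?_, ?_⟩
      · show pullback.fst f (Y.fromSpecStalk (f ξ)) p ∈ Set.range hU.fromSpec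
        rw [hpt p, hU.range_fromSpec]
        exact hξU
      · exact ⟨_, rfl⟩
    exact this
  have hmiso : IsIso m := (isIso_iff_isOpenImmersion_and_surjective m).mpr ⟨hmopen, hmsurj⟩
  have hsnd : m ≫ pullback.snd f (Y.fromSpecStalk (f ξ)) = pullback.snd a b := by
    simp [m]
  -- reduce to the affine pullback
  suffices hab : IsIso (pullback.snd a b) by
    have : pullback.snd f (Y.fromSpecStalk (f ξ)) = inv m ≫ pullback.snd a b := by
      rw [IsIso.eq_inv_comp, hsnd]
    rw [this]; infer_instance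
  -- the affine pullback is the spectrum of the tensor product
  have hspec := pullbackSpecIso_inv_snd Γ(Y, V) Γ(X, U) (Y.presheaf.stalk (f ξ))
  have hab' : pullback.snd a b = (pullbackSpecIso Γ(Y, V) Γ(X, U) (Y.presheaf.stalk (f ξ))).hom ≫
      Spec.map (CommRingCat.ofHom (R := Y.presheaf.stalk (f ξ))
        (S := Γ(X, U) ⊗[Γ(Y, V)] (Y.presheaf.stalk (f ξ)))
        (RingHomClass.toRingHom Algebra.TensorProduct.includeRight)) := by
    rw [← hspec, Iso.hom_inv_id_assoc]
    rfl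
  rw [hab']
  suffices hbij : Function.Bijective (Algebra.TensorProduct.includeRight :
      (Y.presheaf.stalk (f ξ)) →ₐ[Γ(Y, V)] Γ(X, U) ⊗[Γ(Y, V)] (Y.presheaf.stalk (f ξ))) by
    have : IsIso (Spec.map (CommRingCat.ofHom (R := Y.presheaf.stalk (f ξ))
        (S := Γ(X, U) ⊗[Γ(Y, V)] (Y.presheaf.stalk (f ξ)))
        (RingHomClass.toRingHom Algebra.TensorProduct.includeRight))) :=
      isIso_SpecMap_iff.mpr hbij
    infer_instance
  let _ : Algebra Γ(X, U) (X.presheaf.stalk ξ) := (X.presheaf.germ U ξ hξU).hom.toAlgebra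
  have locY : IsLocalization.AtPrime (Y.presheaf.stalk (f ξ))
      (hV.primeIdealOf ⟨f ξ, hyV⟩).asIdeal := hV.isLocalization_stalk ⟨f ξ, hyV⟩
  have locX : IsLocalization.AtPrime (X.presheaf.stalk ξ)
      (hU.primeIdealOf ⟨ξ, hξU⟩).asIdeal := hU.isLocalization_stalk ⟨ξ, hξU⟩
  have hℓ : ∀ r : Γ(Y, V), (f.stalkMap ξ).hom (algebraMap Γ(Y, V) (Y.presheaf.stalk (f ξ)) r) =
      algebraMap Γ(X, U) (X.presheaf.stalk ξ) (algebraMap Γ(Y, V) Γ(X, U) r) := by
    intro r
    simp only [RingHom.algebraMap_toAlgebra, Scheme.Hom.germ_stalkMap_apply, Scheme.Hom.appLE,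
      homOfLE_leOfHom, CommRingCat.hom_comp, RingHom.coe_comp, Function.comp_apply,
      X.presheaf.germ_res_apply]
  have hbijℓ : Function.Bijective (f.stalkMap ξ).hom :=
    ConcreteCategory.bijective_of_isIso (f.stalkMap ξ)
  refine includeRight_bijective_of_unique_prime (hV.primeIdealOf ⟨f ξ, hyV⟩).asIdeal
    (hU.primeIdealOf ⟨ξ, hξU⟩).asIdeal (Y.presheaf.stalk (f ξ)) (X.presheaf.stalk ξ)
    (f.stalkMap ξ).hom hℓ hbijℓ ?_
  intro P' hP'
  let P'pt : Spec (.of (Γ(X, U) ⊗[Γ(Y, V)] (Y.presheaf.stalk (f ξ)))) := ⟨P', hP'⟩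
  let x' : ↑(pullback a b) :=
    (pullbackSpecIso Γ(Y, V) Γ(X, U) (Y.presheaf.stalk (f ξ))).inv P'pt
  have h1 : pullback.fst a b x' = Spec.map (CommRingCat.ofHom
      (Algebra.TensorProduct.includeLeftRingHom :
        Γ(X, U) →+* Γ(X, U) ⊗[Γ(Y, V)] (Y.presheaf.stalk (f ξ)))) P'pt := by
    have := congrArg (fun g : Spec (.of (Γ(X, U) ⊗[Γ(Y, V)] (Y.presheaf.stalk (f ξ)))) ⟶
      Spec Γ(X, U) => g P'pt) (pullbackSpecIso_inv_fst Γ(Y, V) Γ(X, U) (Y.presheaf.stalk (f ξ)))
    exact this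
  have h2 : pullback.fst f (Y.fromSpecStalk (f ξ)) (m x') = hU.fromSpec (pullback.fst a b x') := by
    have := congrArg (fun g : pullback a b ⟶ X => g x')
      (pullback.lift_fst (pullback.fst a b ≫ hU.fromSpec) (pullback.snd a b ≫ 𝟙 _) (by
        rw [Category.assoc, Category.assoc, ← e₁, ← e₂, pullback.condition_assoc]))
    exact this
  have h3 : hU.fromSpec (pullback.fst a b x') = ξ := h2.symm.trans (hpt (m x'))
  have h4 : hU.fromSpec (hU.primeIdealOf ⟨ξ, hξU⟩) = ξ := hU.fromSpec_primeIdealOf ⟨ξ, hξU⟩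
  have h5 : pullback.fst a b x' = hU.primeIdealOf ⟨ξ, hξU⟩ :=
    hU.fromSpec.isOpenEmbedding.injective (h3.trans h4.symm)
  have h6 := congrArg PrimeSpectrum.asIdeal (h1.symm.trans h5)
  exact h6


/-- For a birational morphism, the base change to the local ring of a generic point of the
target is an isomorphism. -/
theorem isIso_pullback_snd_fromSpecStalk
    (hbij : Set.BijOn (fun x : X => f.base x) {x : X | closure {x} ∈ irreducibleComponents X}
      {y : Y | closure {y} ∈ irreducibleComponents Y})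
    (hiso : ∀ x : X, closure {x} ∈ irreducibleComponents X → IsIso (f.stalkMap x))
    (y : Y) (hy : closure {y} ∈ irreducibleComponents Y) :
    IsIso (pullback.snd f (Y.fromSpecStalk y)) := by
  obtain ⟨ξ, hξ, rfl⟩ := hbij.surjOn hy
  have hfib : ∀ z, f z = f ξ → z = ξ := fun z hz =>
    hbij.injOn (generic_of_map_eq_generic f hy hiso hz) hξ hz
  obtain ⟨V, hV, hyV, -⟩ := exists_isAffineOpen_mem_and_subset (x := f ξ) (U := ⊤) trivial
  obtain ⟨U, hU, hξU, hUle⟩ :=
    exists_isAffineOpen_mem_and_subset (x := ξ) (U := f ⁻¹ᵁ V) hyV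
  exact isIso_pullback_snd_fromSpecStalk_aux f ξ hy (hiso ξ hξ) hfib V hV hyV U hU hξU hUle

end Groth.Agent.Lib.Helper6.LocIso
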