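import Mathlib
import Groth.Agent.Lib.Helper6.LocIso.Sch
import Groth.Agent.Lib.Helper6.SpreadFP.Spread
import Groth.Agent.Lib.Helper2.LfpOfComp

/-!
# Birationality from isomorphic local rings at generic points
-/

set_option autoImplicit false
universe u

namespace Groth.Agent.Lib.Helper6.LocIso

open AlgebraicGeometry CategoryTheory TopologicalSpace Opposite MorphismProperty

/-- If the germ of `f` at `u` is `Spec ψ` followed by the canonical map at `y` with `ψ` an
isomorphism, then `f u = y` and the stalk map of `f` at `u` is an isomorphism. -/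
theorem isIso_stalkMap_of_germ_eq {U Y : Scheme.{u}} (f : U ⟶ Y) (u : U) (y : Y)
    (ψ : Y.presheaf.stalk y ⟶ U.presheaf.stalk u) [IsIso ψ]
    (h : Spec.map ψ ≫ Y.fromSpecStalk y = U.fromSpecStalk u ≫ f) :
    f u = y ∧ IsIso (f.stalkMap u) := by
  have hloc : IsLocalHom ψ.hom := isLocalHom_of_isIso ψ
  have h2 : Spec.map ψ ≫ Y.fromSpecStalk y =
      Spec.map (f.stalkMap u) ≫ Y.fromSpecStalk (f u) := by
    rw [h, Scheme.SpecMap_stalkMap_fromSpecStalk]
  have h3 := (SpecToEquivOfLocalRing Y (U.presheaf.stalk u)).symm.injective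
    (a₁ := ⟨y, ψ, hloc⟩) (a₂ := ⟨f u, f.stalkMap u, inferInstance⟩) h2
  obtain ⟨h₁, h₄⟩ := SpecToEquivOfLocalRing_eq_iff.mp h3
  have h₁' : y = f u := h₁
  refine ⟨h₁'.symm, ?_⟩
  dsimp only at h₄
  have : f.stalkMap u = inv (Y.presheaf.stalkCongr (.of_eq h₁')).hom ≫ ψ := by
    rw [IsIso.eq_inv_comp]; exact h₄.symm
  rw [this]
  infer_instance


theorem stalkSpecializes_of_eq {S : Scheme.{u}} {a b : S} (h : a = b) :
    S.presheaf.stalkSpecializes (Inseparable.of_eq h).specializes =
      eqToHom (congrArg S.presheaf.stalk h.symm) := by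
  subst h; simp

set_option backward.isDefEq.respectTransparency false in
/-- If the local rings of `X` at `x` and of `Y` at `y` are isomorphic over the local ring of `S`,
then (under finiteness hypotheses) `x` and `y` have isomorphic open neighbourhoods over `S`. -/
theorem exists_local_iso_of_stalk_iso {S X Y : Scheme.{u}} (sX : X ⟶ S) (sY : Y ⟶ S)
    (x : X) (y : Y) (hs : sX x = sY y) (e : X.presheaf.stalk x ≅ Y.presheaf.stalk y)
    (he : sX.stalkMap x ≫ e.hom = eqToHom (congrArg S.presheaf.stalk hs) ≫ sY.stalkMap y)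
    (h : (LocallyOfFinitePresentation sX ∧ LocallyOfFinitePresentation sY) ∨
      (LocallyOfFiniteType sX ∧ LocallyOfFiniteType sY ∧ X.IsGermInjectiveAt x ∧
        Y.IsGermInjectiveAt y)) :
    ∃ (U : X.Opens) (hxU : x ∈ U) (f : U.toScheme ⟶ Y) (U' : U.toScheme.Opens) (V : Y.Opens)
      (hUV : U' ≤ f ⁻¹ᵁ V), f ≫ sY = U.ι ≫ sX ∧ (⟨x, hxU⟩ : U) ∈ U' ∧ y ∈ V ∧
        IsIso (f.resLE V U' hUV) := by
  have hcompat : sY.stalkMap y ≫ e.inv =
      S.presheaf.stalkSpecializes (Inseparable.of_eq hs).specializes ≫ sX.stalkMap x := by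
    rw [stalkSpecializes_of_eq hs, Iso.comp_inv_eq, Category.assoc, he, ← Category.assoc,
      eqToHom_trans, eqToHom_refl, Category.id_comp]
  obtain ⟨U, hxU, f, hgerm, hfS⟩ : ∃ (U : X.Opens) (hxU : x ∈ U) (f : U.toScheme ⟶ Y),
      Spec.map e.inv ≫ Y.fromSpecStalk y = U.fromSpecStalkOfMem x hxU ≫ f ∧
        f ≫ sY = U.ι ≫ sX := by
    rcases h with ⟨_, h2⟩ | ⟨_, h2, h3, _⟩
    · exact SpreadFP.spread_out_of_finitePresentation sX sY hs e.inv hcompat
    · exact spread_out_of_isGermInjective sX sY hs e.inv hcompat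
  have hψ : Spec.map (e.inv ≫ U.ι.stalkMap ⟨x, hxU⟩) ≫ Y.fromSpecStalk y =
      U.toScheme.fromSpecStalk ⟨x, hxU⟩ ≫ f := by
    rw [Spec.map_comp, Category.assoc, hgerm, Scheme.Opens.fromSpecStalkOfMem, Category.assoc,
      ← Spec.map_comp_assoc, IsIso.inv_hom_id, Spec.map_id, Category.id_comp]
  obtain ⟨hfx, hiso⟩ := isIso_stalkMap_of_germ_eq f ⟨x, hxU⟩ y
    (e.inv ≫ U.ι.stalkMap ⟨x, hxU⟩) hψ
  have hf : LocallyOfFinitePresentation f ∨
      (LocallyOfFiniteType f ∧ Y.IsGermInjectiveAt (f ⟨x, hxU⟩)) := by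
    rcases h with ⟨h1, h2⟩ | ⟨h1, h2, h3, h4⟩
    · left
      exact Helper2.locallyOfFinitePresentation_of_comp f sY inferInstance
        (by rw [hfS]; infer_instance)
    · right
      refine ⟨?_, hfx ▸ h4⟩
      have : LocallyOfFiniteType (f ≫ sY) := by rw [hfS]; infer_instance
      exact locallyOfFiniteType_of_comp f sY
  obtain ⟨U', V, hUV, hxU', -, -, -, -, hIso⟩ :=
    exists_isIso_resLE f ⟨x, hxU⟩ hiso hf ⊤ trivial ⊤ trivial
  exact ⟨U, hxU, f, U', V, hUV, hfS, hxU', hfx ▸ hUV hxU', hIso⟩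


theorem stalkCongr_hom_eq_eqToHom {S : Scheme.{u}} {a b : S} (h : a = b) :
    (S.presheaf.stalkCongr (.of_eq h)).hom = eqToHom (congrArg S.presheaf.stalk h) := by
  subst h; simp [TopCat.Presheaf.stalkCongr]

/-- Two open immersions from `U` compatible with structure maps to `S` induce an isomorphism of
local rings over `S`. -/
theorem exists_stalk_iso_of_open_immersions {S U X Y : Scheme.{u}} (sX : X ⟶ S) (sY : Y ⟶ S)
    (j : U ⟶ X) (g : U ⟶ Y) [IsOpenImmersion j] [IsOpenImmersion g] (hjg : g ≫ sY = j ≫ sX)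
    (u : U) (x : X) (y : Y) (hx : j u = x) (hy : g u = y) :
    ∃ (hs : sX x = sY y) (e : X.presheaf.stalk x ≅ Y.presheaf.stalk y),
      sX.stalkMap x ≫ e.hom = eqToHom (congrArg S.presheaf.stalk hs) ≫ sY.stalkMap y := by
  subst hx hy
  have hs : sX (j u) = sY (g u) := by
    rw [← Scheme.Hom.comp_apply, ← Scheme.Hom.comp_apply, hjg]
  refine ⟨hs, asIso (j.stalkMap u) ≪≫ (asIso (g.stalkMap u)).symm, ?_⟩
  simp only [Iso.trans_hom, asIso_hom, Iso.symm_hom, asIso_inv]
  rw [← Category.assoc, IsIso.comp_inv_eq, Category.assoc, ← Scheme.Hom.stalkMap_comp,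
    ← Scheme.Hom.stalkMap_comp, Scheme.Hom.stalkMap_congr_hom _ _ hjg.symm]
  congr 1
  exact stalkCongr_hom_eq_eqToHom (S := S) hs

/-- Birationality from a local isomorphism at the generic points. -/
theorem birationalOver_of_local_iso {S X Y : Scheme.{u}} [IrreducibleSpace X] [IrreducibleSpace Y]
    (sX : X ⟶ S) (sY : Y ⟶ S) (U : X.Opens) (f : U.toScheme ⟶ Y) (U' : U.toScheme.Opens)
    (V : Y.Opens) (hUV : U' ≤ f ⁻¹ᵁ V) (hfS : f ≫ sY = U.ι ≫ sX)
    (hU' : (U' : Set U.toScheme).Nonempty) (hV : (V : Set Y).Nonempty)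
    (hIso : IsIso (f.resLE V U' hUV)) : Scheme.BirationalOver sX sY := by
  have hdom : IsDominant (U'.ι ≫ U.ι) := by
    obtain ⟨z, hz⟩ := hU'
    exact ⟨((U'.ι ≫ U.ι).isOpenEmbedding.isOpen_range).dense ⟨_, ⟨⟨z, hz⟩, rfl⟩⟩⟩
  have h1 : Scheme.BirationalOver ((U'.ι ≫ U.ι) ≫ sX) sX :=
    Scheme.Hom.birationalOver (U'.ι ≫ U.ι) sX _ rfl
  have h2 : Scheme.BirationalOver ((U'.ι ≫ U.ι) ≫ sX) (V.ι ≫ sY) :=
    Scheme.Hom.birationalOver (f.resLE V U' hUV) (V.ι ≫ sY) _ (by
      rw [Scheme.Hom.resLE_comp_ι_assoc, hfS, Category.assoc])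
  have h3 : Scheme.BirationalOver (V.ι ≫ sY) sY :=
    V.birationalOver_of_dense sY (V.2.dense hV)
  exact h1.symm.trans (h2.trans h3)


/-- A birational correspondence over `S` between irreducible schemes yields a common open subscheme
containing (a point over) both generic points. -/
theorem exists_common_open_of_birationalOver {S X Y : Scheme.{u}} [IrreducibleSpace X]
    [IrreducibleSpace Y] (sX : X ⟶ S) (sY : Y ⟶ S) (h : Scheme.BirationalOver sX sY) :
    ∃ (U : Scheme.{u}) (j : U ⟶ X) (g : U ⟶ Y) (_ : IsOpenImmersion j) (_ : IsOpenImmersion g)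
      (u : U), g ≫ sY = j ≫ sX ∧ j u = genericPoint X ∧ g u = genericPoint Y := by
  obtain ⟨P, hP⟩ := h
  have hx : genericPoint X ∈ P.source := by
    obtain ⟨z, hz⟩ := P.dense_source.nonempty
    exact (genericPoint_specializes z).mem_open P.source.2 hz
  have hy : genericPoint Y ∈ P.target := by
    obtain ⟨z, hz⟩ := P.dense_target.nonempty
    exact (genericPoint_specializes z).mem_open P.target.2 hz
  refine ⟨P.source.toScheme, P.source.ι, P.iso.hom ≫ P.target.ι, inferInstance, inferInstance,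
    ⟨genericPoint X, hx⟩, ?_, rfl, ?_⟩
  · rw [Category.assoc]; exact hP
  · set u : P.source.toScheme := ⟨genericPoint X, hx⟩ with hu
    set v : P.target.toScheme := ⟨genericPoint Y, hy⟩ with hv
    set g := P.iso.hom ≫ P.target.ι with hg
    have hgu' : g (P.iso.inv v) = genericPoint Y := by
      rw [hg, Scheme.Hom.comp_apply, Scheme.inv_hom_apply]; rfl
    have h1 : genericPoint Y ⤳ g u := genericPoint_specializes _
    have h2 : g u ⤳ genericPoint Y := by
      have hspec : u ⤳ P.iso.inv v :=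
        (P.source.ι.isOpenEmbedding.isInducing.specializes_iff).mp
          (genericPoint_specializes _)
      have := hspec.map g.continuous
      rwa [hgu'] at this
    exact (h2.antisymm h1).eq


/-- Residue field version of `exists_stalk_iso_of_open_immersions`. -/
theorem exists_residueField_iso_of_open_immersions {S U X Y : Scheme.{u}} (sX : X ⟶ S)
    (sY : Y ⟶ S) (j : U ⟶ X) (g : U ⟶ Y) [IsOpenImmersion j] [IsOpenImmersion g]
    (hjg : g ≫ sY = j ≫ sX) (u : U) (x : X) (y : Y) (hx : j u = x) (hy : g u = y) :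
    ∃ (hs : sX x = sY y) (e : X.residueField x ≅ Y.residueField y),
      sX.residueFieldMap x ≫ e.hom =
        eqToHom (congrArg S.residueField hs) ≫ sY.residueFieldMap y := by
  subst hx hy
  have hs : sX (j u) = sY (g u) := by
    rw [← Scheme.Hom.comp_apply, ← Scheme.Hom.comp_apply, hjg]
  refine ⟨hs, asIso (j.residueFieldMap u) ≪≫ (asIso (g.residueFieldMap u)).symm, ?_⟩
  simp only [Iso.trans_hom, asIso_hom, Iso.symm_hom, asIso_inv]
  rw [← Category.assoc, IsIso.comp_inv_eq, Category.assoc, ← Scheme.residueFieldMap_comp,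
    ← Scheme.residueFieldMap_comp, Scheme.Hom.residueFieldMap_congr hjg.symm]
  rfl

@[reassoc]
theorem residue_eqToHom {S : Scheme.{u}} {a b : S} (h : a = b) :
    S.residue a ≫ eqToHom (congrArg S.residueField h) =
      eqToHom (congrArg S.presheaf.stalk h) ≫ S.residue b := by
  subst h; simp

/-- On an integral scheme, the residue map at the generic point is an isomorphism. -/
theorem isIso_residue_genericPoint (X : Scheme.{u}) [IsIntegral X] :
    IsIso (X.residue (genericPoint X)) := by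
  rw [ConcreteCategory.isIso_iff_bijective]
  refine ⟨?_, X.residue_surjective _⟩
  have hfield : IsField (X.presheaf.stalk (genericPoint X)) :=
    Field.toIsField (X.functionField)
  have hmax := (IsLocalRing.isField_iff_maximalIdeal_eq).mp hfield
  show Function.Injective (IsLocalRing.residue (X.presheaf.stalk (genericPoint X)))
  exact (RingHom.injective_iff_ker_eq_bot _).mpr (by rw [IsLocalRing.ker_residue, hmax])

end Groth.Agent.Lib.Helper6.LocIso
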